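import Cfsg.Agent.Lib.Fus.M22U.Config
import Cfsg.Agent.Lib.Spor.Cos.Fi22.IsSimple

/-! A group of type M(22) is the presented Fischer group, transpositions matching. -/

set_option autoImplicit false
set_option linter.style.haveILetI false
set_option maxRecDepth 20000
set_option maxHeartbeats 1000000

namespace Cfsg.Agent.Fus.M22U

open Cfsg Cfsg.Agent.Spor.ThreeTrans Cfsg.Agent.Block.FischerTypes Cfsg.Agent.Block.FischerTypes.U6Code

theorem label : ∀ x y : Spor.Fi22.Gen, Spor.coxLabel Spor.Fi22.edges x y =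
    cond (Nat.beq (Spor.Cos.Fi22.num x) (Spor.Cos.Fi22.num y)) 1
      (cond (edge (Spor.Cos.Fi22.num x) (Spor.Cos.Fi22.num y)) 3 2) := by
  intro x y
  cases x <;> cases y <;> rfl

variable {G : Type*} [Group G] [Finite G] {D : Set G}

/-- The isomorphism. -/
theorem exists_iso (C : M22.Ctx D) : ∃ e : Spor.Fi22 ≃* G,
    e '' conjugatesOf (Spor.Cos.Fi22.g 0) = D := by
  classical
  have hN := M22.numbered_ctx C
  have h3510 := M22.ncard_eq C hN
  obtain ⟨a, ha⟩ := Set.nonempty_of_ncard_ne_zero (s := D) (by omega)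
  obtain ⟨b, hb, hba⟩ := apart_nonempty C.set.hyp ha
  have hab : ¬ Commute a b := fun k => hba k.symm
  obtain ⟨M, hM⟩ := exists_normal C ha hb hab
  let f : Spor.Fi22.Gen → G := fun x => conf M.pt a b (Spor.Cos.Fi22.num x)
  have hn : ∀ x, Spor.Cos.Fi22.num x < 9 := fun x => by cases x <;> decide
  have hrel : ∀ r ∈ Spor.coxRelators Spor.Fi22.edges ∪ {r | r ∈ Spor.Fi22.extra},
      FreeGroup.lift f r = 1 := by
    rintro r (⟨x, -, y, -, rfl⟩ | hr)
    · rw [map_pow, map_mul, FreeGroup.lift_apply_of, FreeGroup.lift_apply_of, label]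
      show (conf M.pt a b _ * conf M.pt a b _) ^ _ = (1 : G)
      have hx := conf_mem C ha hb hab M hM (hn x)
      have hy := conf_mem C ha hb hab M hM (hn y)
      by_cases hxy : Spor.Cos.Fi22.num x = Spor.Cos.Fi22.num y
      · rw [hxy, Nat.beq_refl]
        simp [mul_self C.set.cls.1 hy]
      · rw [show Nat.beq (Spor.Cos.Fi22.num x) (Spor.Cos.Fi22.num y) = false from
          Bool.eq_false_iff.2 fun k => hxy (Nat.eq_of_beq_eq_true k)]
        cases he : edge (Spor.Cos.Fi22.num x) (Spor.Cos.Fi22.num y)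
        · have k := (conf_comm C ha hb hab M hM (hn x) (hn y)).2 he
          simp [pow_two, k.eq, mul_assoc, ← mul_assoc (conf M.pt a b (Spor.Cos.Fi22.num x)) _ _,
            mul_self C.set.cls.1 hx, mul_self C.set.cls.1 hy]
        · rcases C.set.cls.1.2 _ hx _ hy with k | k
          · have k' : Commute (conf M.pt a b (Spor.Cos.Fi22.num x)) (conf M.pt a b (Spor.Cos.Fi22.num y)) := by
              have h2 := eq_inv_of_mul_eq_one_left (show (conf M.pt a b (Spor.Cos.Fi22.num x) *
                conf M.pt a b (Spor.Cos.Fi22.num y)) * _ = 1 by rw [← pow_two]; exact k)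
              rwa [mul_inv_rev, inv_eq C.set.cls.1 hx, inv_eq C.set.cls.1 hy] at h2
            exact absurd ((conf_comm C ha hb hab M hM (hn x) (hn y)).1 k') (by simp [he])
          · simpa using k
    · simp only [Spor.Fi22.extra, Set.mem_setOf_eq, List.mem_cons, List.not_mem_nil, or_false] at hr
      obtain ⟨hB, hS⟩ := relations_BS C ha hb hab M hM
      have hA := relation_A C ha hb hab M hM
      rcases hr with rfl | rfl | rfl
      · simpa [f, Spor.Cos.Fi22.num, wev, mul_assoc] using hS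
      · simpa [f, Spor.Cos.Fi22.num, wev, mul_assoc] using hA
      · simpa [f, Spor.Cos.Fi22.num, wev, mul_assoc] using hB
  let φ : Spor.Fi22 →* G := PresentedGroup.toGroup hrel
  haveI := Spor.Cos.Fi22.isSimple
  have hφ0 : φ (Spor.Cos.Fi22.g 0) = a := by
    rw [show Spor.Cos.Fi22.g 0 = PresentedGroup.of Spor.Fi22.Gen.a from
      Spor.Cos.Fi22.pres.gen_idx Spor.Fi22.Gen.a]
    exact (PresentedGroup.toGroup.of hrel).trans (by simp [f, Spor.Cos.Fi22.num, conf])
  have hinj : Function.Injective φ := by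
    refine (MonoidHom.ker_eq_bot_iff φ).1
      ((IsSimpleGroup.eq_bot_or_eq_top_of_normal φ.ker inferInstance).resolve_right fun ht => ?_)
    have h1 : φ (Spor.Cos.Fi22.g 0) = 1 := (MonoidHom.mem_ker).1 (ht ▸ Subgroup.mem_top _)
    have h2 := C.set.cls.1.1 a ha
    rw [← hφ0, h1, orderOf_one] at h2
    norm_num at h2
  have hcard : Nat.card Spor.Fi22 = Nat.card G := by
    rw [Spor.Cos.Fi22.card_eq, M22.card_group C hN]
  haveI := Spor.Cos.Fi22.finite
  have hbij : Function.Bijective φ := by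
    haveI := Fintype.ofFinite Spor.Fi22
    haveI := Fintype.ofFinite G
    exact (Fintype.bijective_iff_injective_and_card φ).2
      ⟨hinj, by simpa [Nat.card_eq_fintype_card] using hcard⟩
  refine ⟨MulEquiv.ofBijective φ hbij, ?_⟩
  ext y
  constructor
  · rintro ⟨x, hx, rfl⟩
    obtain ⟨c, rfl⟩ := _root_.isConj_iff.1 (show _root_.IsConj (Spor.Cos.Fi22.g 0) _ from hx)
    show φ (c * Spor.Cos.Fi22.g 0 * c⁻¹) ∈ D
    rw [map_mul, map_mul, hφ0, map_inv]
    exact conj_mem C.set.cls _ ha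
  · intro hy
    obtain ⟨g, hg⟩ := transitive C.set.cls ha hy
    obtain ⟨c, hc⟩ := hbij.2 g
    refine ⟨c * Spor.Cos.Fi22.g 0 * c⁻¹, _root_.isConj_iff.2 ⟨c, rfl⟩, ?_⟩
    show φ (c * Spor.Cos.Fi22.g 0 * c⁻¹) = y
    rw [map_mul, map_mul, hφ0, map_inv, hc, hg]

end Cfsg.Agent.Fus.M22U
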