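import Cfsg.Agent.Lib.Fus.M22U.Model
import Cfsg.Prelude.Def_FischerSpaces

/-! Transpositions of the presented Fischer group as points. -/

set_option autoImplicit false
set_option maxRecDepth 20000

open Cfsg.Agent.Spor.Cos

namespace Cfsg.Agent.Fus.M22U

open Cfsg

/-- The transposition of a point. -/
noncomputable def dpt (p : Fin Fi22.actB.N) : Spor.Fi22 :=
  (Fi22.trB p).choose * Fi22.tz * (Fi22.trB p).choose⁻¹

theorem mem_stab_iff {y : Spor.Fi22} : y * Fi22.tz = Fi22.tz * y ↔ Fi22.piB y Fi22.baseB = Fi22.baseB := by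
  rw [← Subgroup.mem_centralizer_singleton_iff, Fi22.centralizer_tz, Fi22.mem_sh_iff]

theorem dpt_eq {y : Spor.Fi22} {p : Fin Fi22.actB.N} (h : Fi22.piB y Fi22.baseB = p) :
    dpt p = y * Fi22.tz * y⁻¹ := by
  have h' : Fi22.piB ((Fi22.trB p).choose⁻¹ * y) Fi22.baseB = Fi22.baseB := by
    rw [map_mul, map_inv, Equiv.Perm.mul_apply, h, Equiv.Perm.inv_eq_iff_eq]
    exact (Fi22.trB p).choose_spec.symm
  have k := mem_stab_iff.2 h'
  set z := (Fi22.trB p).choose
  have e : y = z * (z⁻¹ * y) := by group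
  show z * Fi22.tz * z⁻¹ = _
  rw [e, mul_assoc z (z⁻¹ * y), k]
  group

theorem commute_dpt {x : Spor.Fi22} {p : Fin Fi22.actB.N} :
    Commute x (dpt p) ↔ Fi22.piB x p = p := by
  set z := (Fi22.trB p).choose with hz
  have h := (Fi22.trB p).choose_spec
  have e : Commute x (dpt p) ↔ (z⁻¹ * x * z) * Fi22.tz = Fi22.tz * (z⁻¹ * x * z) := by
    rw [dpt, ← hz]
    constructor
    · intro k
      have := congrArg (fun t => z⁻¹ * t * z) k.eq
      simpa [mul_assoc] using this
    · intro k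
      have := congrArg (fun t => z * t * z⁻¹) k
      simp only [mul_assoc, mul_inv_cancel_left, mul_inv_cancel, mul_one] at this
      show x * (z * Fi22.tz * z⁻¹) = z * Fi22.tz * z⁻¹ * x
      simpa [mul_assoc] using this
  rw [e, mem_stab_iff, map_mul, map_mul, map_inv, Equiv.Perm.mul_apply, Equiv.Perm.mul_apply,
    Equiv.Perm.inv_eq_iff_eq, hz, h]

theorem dpt_injective : Function.Injective dpt := by
  intro p q e
  have hp := (Fi22.trB p).choose_spec
  have hq := (Fi22.trB q).choose_spec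
  set y := (Fi22.trB p).choose
  set z := (Fi22.trB q).choose
  have k : (y⁻¹ * z) * Fi22.tz = Fi22.tz * (y⁻¹ * z) := by
    have e' : y * Fi22.tz * y⁻¹ = z * Fi22.tz * z⁻¹ := e
    have := congrArg (fun t => y⁻¹ * t * z) e'
    simpa [mul_assoc] using this.symm
  have := mem_stab_iff.1 k
  rw [map_mul, map_inv, Equiv.Perm.mul_apply, hq, Equiv.Perm.inv_eq_iff_eq] at this
  exact (this.trans hp).symm

theorem tz_eq : Fi22.tz = Fi22.g 0 := by simp [Fi22.tz, ev]

theorem range_dpt : Set.range dpt = classD := by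
  ext d
  constructor
  · rintro ⟨p, rfl⟩
    exact _root_.isConj_iff.2 ⟨_, by rw [dpt, tz_eq]⟩
  · intro hd
    obtain ⟨y, rfl⟩ := _root_.isConj_iff.1 (show _root_.IsConj (Fi22.g 0) d from hd)
    exact ⟨_, (dpt_eq (y := y) rfl).trans (by rw [tz_eq])⟩

/-- The points fixed by a subgroup. -/
def fixedPts (X : Subgroup Spor.Fi22) : Set (Fin Fi22.actB.N) := {p | ∀ x ∈ X, Fi22.piB x p = p}

/-- The width of the transpositions centralising a subgroup, on points. -/
theorem width_eq {G : Type*} [Group G] (e : Spor.Fi22 ≃* G) {D : Set G} (he : ∀ x, e x ∈ D ↔ x ∈ classD)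
    (X : Subgroup Spor.Fi22) :
    commutingWidth (D ∩ (Subgroup.centralizer ((X.map e.toMonoidHom : Subgroup G) : Set G) : Set G)) =
      sSup {n : ℕ | ∃ E : Finset (Fin Fi22.actB.N), ↑E ⊆ fixedPts X ∧
        (∀ p ∈ E, ∀ q ∈ E, Fi22.piB (dpt p) q = q) ∧ E.card = n} := by
  classical
  unfold commutingWidth
  refine congrArg sSup (Set.ext fun n => ?_)
  have hcen : ∀ p, e (dpt p) ∈ Subgroup.centralizer ((X.map e.toMonoidHom : Subgroup G) : Set G) ↔ p ∈ fixedPts X := by
    intro p
    simp only [Subgroup.mem_centralizer_iff, Subgroup.coe_map, MulEquiv.coe_toMonoidHom, Set.forall_mem_image,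
      SetLike.mem_coe, fixedPts, Set.mem_ofPred_eq]
    refine forall₂_congr fun x _ => ?_
    rw [← map_mul, ← map_mul, e.injective.eq_iff]
    exact commute_dpt
  constructor
  · rintro ⟨E, hE, hfin, hc, rfl⟩
    have hpre : ∀ d ∈ E, ∃ p, e (dpt p) = d := fun d hd => by
      have : e.symm d ∈ classD := (he _).1 (by simpa using (hE hd).1)
      obtain ⟨p, hp⟩ := range_dpt.symm ▸ this
      exact ⟨p, by rw [hp]; simp⟩
    refine ⟨((fun p => e (dpt p)) ⁻¹' E).toFinite.toFinset, fun p hp => ?_, fun p hp q hq => ?_, ?_⟩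
    · simp only [Set.Finite.coe_toFinset, Set.mem_preimage] at hp
      exact (hcen p).1 (hE hp).2
    · simp only [Set.Finite.mem_toFinset, Set.mem_preimage] at hp hq
      exact commute_dpt.1 (e.injective (by rw [map_mul, map_mul]; exact (hc _ hp _ hq).eq))
    · rw [← Set.ncard_eq_toFinset_card]
      exact Set.ncard_preimage_of_injective_subset_range (fun p q h => dpt_injective (e.injective h))
        fun d hd => hpre d hd
  · rintro ⟨E, hE, hc, rfl⟩
    refine ⟨(fun p => e (dpt p)) '' ↑E, ?_, Set.toFinite _, ?_, ?_⟩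
    · rintro _ ⟨p, hp, rfl⟩
      exact ⟨(he _).2 (range_dpt ▸ ⟨p, rfl⟩), (hcen p).2 (hE hp)⟩
    · rintro _ ⟨p, hp, rfl⟩ _ ⟨q, hq, rfl⟩
      exact (commute_dpt.2 (hc p hp q hq)).map e
    · rw [Set.ncard_image_of_injective _ fun p q h => dpt_injective (e.injective h), Set.ncard_coe_finset]

end Cfsg.Agent.Fus.M22U
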