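import Cfsg.Agent.Lib.Fus.M22U.Iso
import Cfsg.Agent.Lib.Spor.Cos.Fi22.Trans
import Cfsg.Agent.Lib.Block.FischerTypes.M22Counts

/-! The transpositions of the presented group and a simple transfer. -/

set_option autoImplicit false
set_option maxRecDepth 20000

namespace Cfsg.Agent.Fus.M22U

open Cfsg Cfsg.Agent.Spor.Cos Cfsg.Agent.Block.FischerTypes

/-- The transpositions of the presented group. -/
def classD : Set Spor.Fi22 := conjugatesOf (Fi22.g 0)

theorem mem_step {x y : Spor.Fi22} (hx : x ∈ classD) (h2 : x * x = 1) (h : y * x * y = x * y * x) (hy : y * y = 1) :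
    y ∈ classD := by
  refine _root_.IsConj.trans hx (_root_.isConj_iff.2 ⟨x * y, ?_⟩)
  have hyi : y⁻¹ = y := inv_eq_of_mul_eq_one_right hy
  have hxi : x⁻¹ = x := inv_eq_of_mul_eq_one_right h2
  calc x * y * x * (x * y)⁻¹ = (y * x * y) * (y * x) := by rw [h, mul_inv_rev, hyi, hxi]
    _ = y * x * (y * y) * x := by simp only [mul_assoc]
    _ = y := by rw [hy, mul_one, mul_assoc, h2, mul_one]

theorem g_mem_classD : ∀ k < 9, Fi22.g k ∈ classD := by
  have step : ∀ i j : ℕ, [i, j, i, j, i, j] ∈ Fi22.words → Fi22.g i ∈ classD → Fi22.g j ∈ classD := by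
    intro i j hw hi
    refine mem_step hi (Fi22.g_sq i) ?_ (Fi22.g_sq j)
    have h := Fi22.g_words _ hw
    simp only [ev, List.map_cons, List.map_nil, List.prod_cons, List.prod_nil, mul_one] at h
    have h' : (Fi22.g i * Fi22.g j * Fi22.g i) * (Fi22.g j * Fi22.g i * Fi22.g j) = 1 := by
      simpa [mul_assoc] using h
    have e := eq_inv_of_mul_eq_one_right h'
    rw [e, mul_inv_rev, mul_inv_rev, inv_eq_of_mul_eq_one_right (Fi22.g_sq i),
      inv_eq_of_mul_eq_one_right (Fi22.g_sq j), mul_assoc]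
  have h0 : Fi22.g 0 ∈ classD := mem_conjugatesOf_self
  have h1 := step 0 1 (by decide +kernel) h0
  have h2 := step 1 2 (by decide +kernel) h1
  have h3 := step 2 3 (by decide +kernel) h2
  have h4 := step 3 4 (by decide +kernel) h3
  have h5 := step 4 5 (by decide +kernel) h4
  have h6 := step 5 6 (by decide +kernel) h5
  have h7 := step 3 7 (by decide +kernel) h3
  have h8 := step 7 8 (by decide +kernel) h7
  intro k hk
  interval_cases k
  exacts [h0, h1, h2, h3, h4, h5, h6, h7, h8]

/-- The isomorphism, from the hypotheses of the statements. -/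
theorem exists_model {G : Type*} [Group G] [Finite G] {D : Set G} (hD : IsThreeTranspositionGroup D)
    (hprim : IsPrimitiveUnderConj D) (h22 : IsOfTypeM22 G D) :
    ∃ e : Spor.Fi22 ≃* G, ∀ x, e x ∈ D ↔ x ∈ classD := by
  obtain ⟨e, he⟩ := exists_iso (M22.ctx hD hprim h22)
  refine ⟨e, fun x => ?_⟩
  rw [← he]
  exact e.injective.mem_set_image

theorem closure_classD : Subgroup.closure classD = ⊤ := by
  rw [eq_top_iff, ← Fi22.g_gen, Subgroup.closure_le]
  rintro _ ⟨s, hs, rfl⟩
  exact Subgroup.subset_closure (g_mem_classD s hs)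

end Cfsg.Agent.Fus.M22U
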