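import Cfsg.Agent.Lib.Fus.M22U.Code
import Cfsg.Agent.Lib.Fus.M22U.Words

/-! Rewriting by cancellations and braid moves. -/

set_option autoImplicit false

namespace Cfsg.Agent.Fus.M22U

/-- One move: cancel, commute or braid, at the start. -/
def moveHead : ℕ → List ℕ → Option (List ℕ)
  | 0, x :: y :: r => cond (Nat.beq x y) (some r) none
  | 1, x :: y :: r => cond (!(Nat.beq x y) && !(edge x y)) (some (y :: x :: r)) none
  | 2, x :: y :: z :: r => cond (Nat.beq x z && edge x y) (some (y :: x :: y :: r)) none
  | _, _ => none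

/-- One move at a position. -/
def moveAt (t : ℕ) : ℕ → List ℕ → Option (List ℕ)
  | 0, w => moveHead t w
  | k + 1, x :: r => (moveAt t k r).map (x :: ·)
  | _ + 1, [] => none

/-- A list of moves. -/
def run : List ℕ → List ℕ → Option (List ℕ)
  | [], w => some w
  | c :: cs, w => match moveAt (c % 3) (c / 3) w with
    | some w' => run cs w'
    | none => none

/-- A word reducing to the empty one. -/
def chkTriv (w st : List ℕ) : Bool :=
  w.all (fun x => Nat.blt x 9) &&
  match run st w with
  | some [] => true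
  | _ => false

/-- A power of a word. -/
def rep (w : List ℕ) : ℕ → List ℕ
  | 0 => []
  | n + 1 => w ++ rep w n

/-- The commutation of a word with a letter. -/
def commWord (w : List ℕ) (s : ℕ) : List ℕ := w ++ [s] ++ w.reverse ++ [s]

/-- The first word. -/
def wA : List ℕ := rep [0, 1, 2, 3, 4, 5, 7] 9

/-- The second word. -/
def wB : List ℕ := rep [1, 2, 3, 4, 5, 6, 7] 9

/-- The spider word. -/
def wS : List ℕ := rep [3, 2, 1, 3, 4, 5, 3, 7, 8] 10

/-- The translation. -/
def t0 : List ℕ := 1 :: (thWord ++ [thMid] ++ thWord.reverse)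

/-- A conjugate of a cube of the translation. -/
def tgt : Option (List ℕ × Bool) → List ℕ
  | none => []
  | some (y, true) => y ++ rep t0 3 ++ y.reverse
  | some (y, false) => y ++ rep t0.reverse 3 ++ y.reverse

/-- The check of a spider certificate. -/
def chkSp (d : ℕ × Option (List ℕ × Bool) × List ℕ) : Bool :=
  chkTriv (commWord wS d.1 ++ (tgt d.2.1).reverse) d.2.2

/-- The check of a certificate for a letter. -/
def chkE7 (w : List ℕ) (d : ℕ × List ℕ) : Bool := chkTriv (commWord w d.1) d.2

variable {G : Type*} [Group G]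

/-- A word in `G`. -/
def wev (F : ℕ → G) (w : List ℕ) : G := (w.map F).prod

/-- The relations of the diagram. -/
structure Cox (F : ℕ → G) : Prop where
  sq : ∀ i < 9, F i * F i = 1
  comm : ∀ i < 9, ∀ j < 9, i ≠ j → edge i j = false → F i * F j = F j * F i
  braid : ∀ i < 9, ∀ j < 9, edge i j = true → F i * F j * F i = F j * F i * F j

theorem wev_append (F : ℕ → G) (u v : List ℕ) : wev F (u ++ v) = wev F u * wev F v := by
  simp [wev]

theorem wev_rep (F : ℕ → G) (w : List ℕ) : ∀ n, wev F (rep w n) = wev F w ^ n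
  | 0 => by simp [rep, wev]
  | n + 1 => by rw [rep, wev_append, wev_rep F w n, pow_succ']

theorem wev_reverse {F : ℕ → G} (C : Cox F) : ∀ w : List ℕ, (∀ x ∈ w, x < 9) → wev F w.reverse = (wev F w)⁻¹
  | [], _ => by simp [wev]
  | x :: w, h => by
    rw [List.reverse_cons, wev_append, wev_reverse C w fun y hy => h y (List.mem_cons_of_mem _ hy)]
    have hx := C.sq x (h x List.mem_cons_self)
    simp only [wev, List.map_cons, List.map_nil, List.prod_cons, List.prod_nil, mul_one, mul_inv_rev]
    rw [← eq_inv_of_mul_eq_one_left hx]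

theorem moveHead_ev {F : ℕ → G} (C : Cox F) {t : ℕ} {w w' : List ℕ} (hw : ∀ x ∈ w, x < 9)
    (h : moveHead t w = some w') : wev F w = wev F w' ∧ ∀ x ∈ w', x < 9 := by
  match t, w, h with
  | 0, x :: y :: r, h =>
    simp only [moveHead, Bool.cond_eq_ite] at h
    split at h
    · rename_i e
      obtain rfl := Nat.eq_of_beq_eq_true e
      obtain rfl := Option.some.inj h
      exact ⟨by simp [wev, ← mul_assoc, C.sq x (hw x List.mem_cons_self)], fun z hz => hw z (by simp [hz])⟩
    · simp at h
  | 1, x :: y :: r, h =>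
    simp only [moveHead, Bool.cond_eq_ite, Bool.and_eq_true, Bool.not_eq_true'] at h
    split at h
    · rename_i e
      obtain rfl := Option.some.inj h
      have hne : x ≠ y := fun k => by simp [k, Nat.beq_refl] at e
      exact ⟨by simp [wev, ← mul_assoc, C.comm x (hw x (by simp)) y (hw y (by simp)) hne e.2],
        fun z hz => hw z (by simp only [List.mem_cons] at hz ⊢; tauto)⟩
    · simp at h
  | 2, x :: y :: z :: r, h =>
    simp only [moveHead, Bool.cond_eq_ite, Bool.and_eq_true] at h
    split at h
    · rename_i e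
      obtain rfl := Nat.eq_of_beq_eq_true e.1
      obtain rfl := Option.some.inj h
      exact ⟨by simp [wev, ← mul_assoc, C.braid x (hw x (by simp)) y (hw y (by simp)) e.2],
        fun u hu => hw u (by simp only [List.mem_cons] at hu ⊢; tauto)⟩
    · simp at h
  | 0, [], h => simp [moveHead] at h
  | 0, [_], h => simp [moveHead] at h
  | 1, [], h => simp [moveHead] at h
  | 1, [_], h => simp [moveHead] at h
  | 2, [], h => simp [moveHead] at h
  | 2, [_], h => simp [moveHead] at h
  | 2, [_, _], h => simp [moveHead] at h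
  | _ + 3, _, h => simp [moveHead] at h

theorem moveAt_ev {F : ℕ → G} (C : Cox F) {t : ℕ} : ∀ (k : ℕ) {w w' : List ℕ}, (∀ x ∈ w, x < 9) →
    moveAt t k w = some w' → wev F w = wev F w' ∧ ∀ x ∈ w', x < 9
  | 0, _, _, hw, h => moveHead_ev C hw h
  | _ + 1, [], _, _, h => by simp [moveAt] at h
  | k + 1, x :: r, w', hw, h => by
    simp only [moveAt, Option.map_eq_some_iff] at h
    obtain ⟨r', hr, rfl⟩ := h
    obtain ⟨e, hr'⟩ := moveAt_ev C k (fun y hy => hw y (List.mem_cons_of_mem _ hy)) hr
    refine ⟨?_, fun y hy => ?_⟩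
    · simp only [wev, List.map_cons, List.prod_cons]
      exact congrArg (F x * ·) e
    · rcases List.mem_cons.1 hy with rfl | hy
      exacts [hw _ List.mem_cons_self, hr' y hy]

theorem run_ev {F : ℕ → G} (C : Cox F) : ∀ (cs : List ℕ) {w w' : List ℕ}, (∀ x ∈ w, x < 9) →
    run cs w = some w' → wev F w = wev F w'
  | [], _, _, _, h => by simp only [run, Option.some.injEq] at h; rw [h]
  | c :: cs, w, w', hw, h => by
    simp only [run] at h
    split at h
    · rename_i w₁ e
      obtain ⟨e', hw₁⟩ := moveAt_ev C _ hw e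
      exact e'.trans (run_ev C cs hw₁ h)
    · simp at h

theorem chkTriv_ev {F : ℕ → G} (C : Cox F) {w st : List ℕ} (h : chkTriv w st = true) : wev F w = 1 := by
  simp only [chkTriv, Bool.and_eq_true, List.all_eq_true] at h
  have hw : ∀ x ∈ w, x < 9 := fun x hx => Nat.le_of_ble_eq_true (h.1 x hx)
  have h2 := h.2
  split at h2
  · rename_i e
    simpa [wev] using run_ev C st hw e
  · simp at h2

end Cfsg.Agent.Fus.M22U
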