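import Cfsg.Agent.Lib.Fus.M22U.Braid

/-! The reductions, decided. -/

set_option autoImplicit false
set_option maxRecDepth 100000
set_option maxHeartbeats 4000000

namespace Cfsg.Agent.Fus.M22U

theorem eA0 : chkE7 wA e7A0 = true := by decide +kernel
theorem eB0 : chkE7 wB e7B0 = true := by decide +kernel
theorem eS0 : chkSp sp0 = true := by decide +kernel
theorem eA1 : chkE7 wA e7A1 = true := by decide +kernel
theorem eB1 : chkE7 wB e7B1 = true := by decide +kernel
theorem eS1 : chkSp sp1 = true := by decide +kernel
theorem eA2 : chkE7 wA e7A2 = true := by decide +kernel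
theorem eB2 : chkE7 wB e7B2 = true := by decide +kernel
theorem eS2 : chkSp sp2 = true := by decide +kernel
theorem eA3 : chkE7 wA e7A3 = true := by decide +kernel
theorem eB3 : chkE7 wB e7B3 = true := by decide +kernel
theorem eS3 : chkSp sp3 = true := by decide +kernel
theorem eA4 : chkE7 wA e7A4 = true := by decide +kernel
theorem eB4 : chkE7 wB e7B4 = true := by decide +kernel
theorem eS4 : chkSp sp4 = true := by decide +kernel
theorem eA5 : chkE7 wA e7A5 = true := by decide +kernel
theorem eB5 : chkE7 wB e7B5 = true := by decide +kernel
theorem eS5 : chkSp sp5 = true := by decide +kernel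
theorem eA6 : chkE7 wA e7A6 = true := by decide +kernel
theorem eB6 : chkE7 wB e7B6 = true := by decide +kernel
theorem eS6 : chkSp sp6 = true := by decide +kernel

end Cfsg.Agent.Fus.M22U
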