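import Cfsg.Agent.Lib.Fus.M22U.Code

/-! Facts decided on the numbers. -/

set_option autoImplicit false
set_option maxRecDepth 100000
set_option maxHeartbeats 4000000

namespace Cfsg.Agent.Fus.M22U

open Cfsg.Agent.Block.FischerTypes.U6Code

theorem mask_ok : ((List.range 4096).all fun c => inW c == has w0List c) = true := by decide +kernel

theorem w0_ok : (Nat.beq w0List.length 126 && w0List.all isPt && (w0List.Pairwise (· ≠ ·)) &&
    oList.all (has w0List) && oList.all isPt && Nat.beq oList.length 6 &&
    oList == [b0, b1, b2] ++ arcs.getD 0 [] && isPt x1 && gens6.all isPt) = true := by decide +kernel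

theorem gen_ok : (let L := derive gens6 genDer; ptList.all (has L)) = true := by decide +kernel

theorem sig_ok : ((ptList.all fun c => isPt (sig c) && Nat.beq (sig (sig (sig c))) c) &&
    Nat.beq (sig b0) b0 && Nat.beq (sig b1) b1 && Nat.beq (sig b2) b2 &&
    ((arcs.getD 0 []).all fun x => has (arcs.getD 1 []) (sig x) && has (arcs.getD 2 []) (sig (sig x))) &&
    Nat.beq arcs.length 3 && arcs.all fun a => Nat.beq a.length 3) = true := by decide +kernel

theorem sig_comm : (gens6.all fun s => ptList.all fun c => Nat.beq (sig (refl s c)) (refl (sig s) (sig c))) = true := by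
  decide +kernel

theorem planes_ok : (Nat.beq planes3.length 3 &&
    (planes3.all fun P => Nat.beq P.2.length 4 && P.2.all fun l => isLine l && has l b0) &&
    pairList.all fun x => onPair x || planes3.any fun P => P.2.any fun l => has l x) = true := by decide +kernel

theorem plane0_ok : ((planes3.getD 0 (0, [])).2.all fun l => l.all fun x => has planeList x) = true := by decide +kernel

theorem arcs_ok : (plane0.all fun x => plane0.all fun y => plane0.all fun z =>
    !(Nat.blt x y) || !(Nat.blt y z) || Nat.beq x b2 || Nat.beq y b2 || Nat.beq z b2 || arcOk x y z) = true := by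
  decide +kernel

theorem secants_ok : (planeList.all fun p => has oList p || oList.any fun u => oList.any fun v =>
    !(Nat.beq u v) && !(Nat.beq u p) && !(Nat.beq v p) && adj u v && adj u p && adj v p && onLine u v p) = true := by
  decide +kernel

theorem tr1x_ok : ((offList 0 1).all fun c => tr1x.any fun e =>
    Nat.beq e.1 c && fixO e.2 && Nat.beq (act e.2 x1) c) = true := by decide +kernel

theorem tr2x_ok : ((offList 2 3).all fun c => tr2x.any fun e =>
    Nat.beq e.1 c && fixO e.2.2 && Nat.beq (act e.2.2 x1) x1 && Nat.beq (act e.2.2 e.2.1) c && has x2s e.2.1) = true := by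
  decide +kernel

theorem wWords_ok : (wWords.all fun w => w.all isPt) = true := by decide +kernel

theorem cases0_ok : chkCases (x2s.getD 0 0) cases0 = true := by decide +kernel
theorem cases1_ok : chkCases (x2s.getD 1 0) cases1 = true := by decide +kernel
theorem cases2_ok : chkCases (x2s.getD 2 0) cases2 = true := by decide +kernel
theorem cases3_ok : chkCases (x2s.getD 3 0) cases3 = true := by decide +kernel

theorem lev_ok : (chkLev [] [] lev0 && chkLev [lev0.1] [false] lev1 && chkLev [lev0.1, lev1.1] [true, false] lev2 &&
    chkLev [lev0.1, lev1.1, lev2.1] [true, true, true] lev3 &&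
    chkLev [lev0.1, lev1.1, lev2.1, lev3.1] [true, true, true, false] lev4) = true := by decide +kernel

theorem rigs_ok : ((ptList.filter fun x => !(inW x) &&
      chainNext [lev0.1, lev1.1, lev2.1, lev3.1, lev4.1] [true, true, false, false, true] x).all fun c =>
    rigs.any fun e => Nat.beq e.1 c && chkRigid [lev4.1, lev1.1, lev2.1, c, lev3.1] e.2.2.1 &&
      (match e.2.2.2 with
       | [] => chkRigid [lev0.1, lev1.1, lev2.1, c, lev3.1] e.2.1
       | v :: _ => isPt v && inW v && [lev0.1, lev1.1, lev2.1, c, lev3.1].all fun y => adj v y)) = true := by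
  decide +kernel

theorem no_seventh : (w0List.all fun x => !([cpt 2, cpt 3, cpt 4, cpt 5, cpt 6, cpt 7].all fun y => adj x y) ||
    has [cpt 2, cpt 3, cpt 4, cpt 5, cpt 6, cpt 7] x) = true := by decide +kernel

theorem six_ok : (let L := derive [cpt 2, cpt 3, cpt 4, cpt 5, cpt 6, cpt 7] sixDer
    match sixBad with
    | [p, q, z] => has L p && has L q && has L z && !(Nat.beq p q) && !(Nat.beq p z) && !(Nat.beq q z) &&
        adj p q && adj p z && adj q z && onLine p q z
    | _ => false) = true := by decide +kernel

theorem e7Rig_ok : chkRigid [cpt 2, cpt 3, cpt 4, cpt 5, cpt 7] e7Rig = true := by decide +kernel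

theorem cfg_ok : ((List.range 7).all fun i => isPt (cpt (i + 2)) &&
    (Bool.xor (Nat.beq i 0) (inW (cpt (i + 2)))) &&
    (List.range 7).all fun j => (adj (cpt (i + 2)) (cpt (j + 2)) == !(edge (i + 2) (j + 2)))) = true := by decide +kernel

end Cfsg.Agent.Fus.M22U
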