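/-! Data for the uniqueness in type M(22). -/

set_option autoImplicit false
set_option maxRecDepth 100000

namespace Cfsg.Agent.Fus.M22U

/-- A step fixing one more point. -/
inductive Ev where
  | conj (i j : Nat)
  | only (x : Nat) (s : List Nat)

/-- Six points whose transvections generate. -/
def gens6 : List Nat :=
  [3, 1415, 2586, 1703, 1814, 2603]

/-- Every point from the six. -/
def genDer : List (Nat × Nat) :=
  [(1, 0), (2, 0), (2, 1), (3, 0), (3, 1), (3, 2), (4, 0), (4, 1), (4, 2), (4, 3), (5, 1), (5, 2), (5, 3), (5, 4), (6, 2), (6, 3), (6, 4), (6, 5), (7, 1), (7, 3), (7, 5), (7, 6), (8, 3), (8, 5), (9, 1), (9, 2), (9, 4), (9, 5), (9, 6), (9, 7), (9, 8), (10, 2), (10, 5), (10, 7), (10, 8), (11, 4), (12, 1), (12, 3), (12, 5), (12, 6), (12, 8), (12, 9), (12, 10), (12, 11), (13, 7), (13, 9), (14, 3), (14, 5), (14, 9), (14, 10), (14, 11), (15, 5), (15, 6), (15, 7), (15, 8), (16, 2), (16, 3), (16, 8), (16, 10), (16, 11), (16, 12), (16, 14), (16, 15),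 (17, 4), (17, 9), (17, 10), (17, 12), (17, 14), (17, 15), (18, 4), (18, 7), (18, 8), (18, 12), (18, 14), (18, 15), (19, 6), (19, 7), (19, 8), (19, 9), (19, 10), (19, 11), (20, 9), (20, 10), (20, 16), (21, 4), (21, 7), (21, 8), (21, 12), (21, 13), (21, 14), (21, 15), (21, 16), (21, 19), (22, 5), (22, 9), (22, 10), (22, 11), (22, 17), (22, 18), (23, 13), (23, 14), (23, 15), (24, 10), (24, 11), (24, 15), (24, 18), (24, 19), (24, 21), (25, 5), (25, 6), (25, 12), (25, 13), (25, 14), (25, 16), (25, 23), (26, 10), (26, 11), (26, 12), (26, 14), (26, 21), (27, 9), (27, 11), (27, 18), (28, 5), (28, 16), (28, 18), (28, 26), (29, 9), (29, 10), (29, 11), (29, 21), (29, 25), (30, 8), (30, 12), (30, 13), (30, 14), (30, 15), (30, 19), (30, 25), (30, 29), (31, 4), (31, 12), (31, 13), (31, 14), (31, 15), (31, 16), (31, 19), (31, 22), (31, 23), (31, 29), (32, 5), (32, 6), (32, 7), (32, 8), (32, 11), (32, 18), (32, 19), (32, 20), (32, 23), (32, 24), (32, 25), (32, 26), (33, 8),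 (33, 12), (33, 13), (33, 14), (33, 15), (33, 27), (33, 28), (33, 29), (34, 13), (34, 14), (34, 15), (34, 17), (34, 19), (34, 26), (34, 29), (35, 12), (35, 13), (35, 14), (35, 15), (35, 19), (35, 29), (36, 13), (36, 14), (36, 17), (36, 18), (36, 22), (36, 23), (37, 12), (37, 16), (37, 17), (37, 22), (37, 26), (37, 32), (37, 33), (38, 7), (38, 8), (38, 12), (38, 20), (38, 22), (38, 25), (38, 26), (38, 27), (38, 31), (38, 32), (38, 36), (39, 12), (39, 14), (39, 15), (39, 17), (39, 18), (39, 19), (39, 23), (39, 29), (39, 32), (40, 17), (40, 18), (40, 19), (40, 26), (40, 33), (41, 17), (41, 18), (41, 23), (41, 24), (41, 26), (41, 30), (41, 36), (42, 9), (42, 36), (42, 38), (42, 39), (43, 5), (43, 6), (43, 18), (43, 19), (43, 24), (43, 29), (43, 31), (43, 33), (43, 39), (43, 41), (44, 9), (44, 10), (44, 11), (44, 15), (44, 21), (44, 28), (44, 30), (44, 32), (44, 33), (44, 34), (44, 35), (44, 36), (44, 37), (44, 38), (44, 39), (44, 40), (44, 41), (45, 25), (45, 37),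 (45, 38), (45, 39), (46, 41), (47, 16), (47, 18), (47, 19), (47, 23), (47, 29), (47, 37), (47, 38), (47, 39), (48, 17), (48, 18), (48, 19), (48, 24), (48, 25), (48, 26), (48, 29), (48, 31), (48, 33), (48, 36), (49, 16), (49, 17), (49, 18), (49, 19), (49, 20), (49, 24), (49, 29), (49, 30), (49, 34), (49, 38), (49, 39), (50, 18), (50, 30), (50, 33), (50, 37), (51, 17), (51, 26), (51, 29), (51, 40), (51, 41), (52, 5), (52, 17), (52, 18), (52, 23), (52, 24), (52, 26), (52, 29), (52, 33), (52, 34), (52, 38), (52, 42), (52, 48), (53, 9), (53, 11), (53, 21), (53, 28), (53, 30), (53, 32), (53, 33), (53, 35), (53, 36), (53, 37), (53, 39), (53, 43), (53, 47), (53, 48), (53, 51), (54, 17), (54, 18), (54, 26), (54, 29), (54, 48), (55, 20), (55, 25), (55, 26), (55, 33), (55, 35), (55, 36), (55, 44), (56, 17), (56, 18), (56, 23), (56, 46), (57, 21), (57, 22), (57, 23), (57, 24), (57, 25), (57, 30), (57, 31), (57, 34), (57, 35), (57, 36), (57, 45), (57, 48), (57, 54), (58,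 16), (58, 17), (58, 18), (58, 19), (59, 33), (59, 38), (59, 40), (59, 44), (59, 45), (59, 51), (60, 44), (61, 21), (61, 32), (61, 33), (61, 34), (61, 43), (61, 48), (61, 49), (61, 51), (62, 20), (62, 22), (62, 26), (62, 27), (62, 48), (62, 49), (62, 51), (62, 59), (63, 25), (63, 31), (63, 32), (63, 43), (63, 49), (64, 25), (64, 31), (64, 49), (64, 50), (64, 51), (64, 58), (64, 59), (65, 20), (65, 21), (65, 22), (65, 32), (65, 33), (65, 34), (65, 36), (65, 42), (65, 50), (66, 18), (66, 30), (66, 33), (66, 35), (66, 38), (66, 51), (66, 52), (66, 57), (67, 30), (67, 32), (67, 33), (68, 21), (68, 30), (68, 35), (68, 36), (68, 39), (68, 51), (69, 21), (69, 33), (69, 34), (69, 48), (69, 58), (70, 14), (70, 40), (70, 42), (70, 44), (70, 52), (70, 53), (70, 55), (70, 64), (70, 65), (70, 67), (71, 42), (71, 49), (72, 21), (72, 25), (72, 36), (72, 37), (72, 55), (72, 65), (73, 21), (73, 31), (73, 32), (73, 36), (73, 43), (73, 47), (73, 51), (75, 24), (75, 30), (75, 31),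 (75, 39), (75, 43), (75, 50), (75, 54), (76, 14), (76, 34), (76, 40), (76, 48), (76, 49), (76, 51), (76, 55), (76, 65), (77, 30), (77, 35), (77, 45), (77, 47), (77, 49), (77, 51), (77, 54), (77, 58), (78, 15), (78, 39), (78, 56), (78, 60), (78, 61), (79, 31), (79, 32), (79, 36), (79, 39), (79, 48), (79, 51), (79, 66), (79, 70), (79, 72), (80, 30), (80, 34), (80, 35), (80, 48), (80, 49), (80, 72), (81, 25), (81, 31), (81, 34), (81, 51), (81, 54), (82, 34), (82, 35), (82, 37), (82, 40), (82, 49), (82, 55), (82, 64), (82, 65), (83, 48), (83, 58), (84, 10), (84, 20), (84, 39), (84, 40), (84, 42), (84, 49), (84, 50), (84, 58), (84, 66), (84, 79), (85, 31), (85, 35), (85, 36), (85, 42), (85, 49), (85, 54), (85, 72), (86, 22), (86, 23), (86, 30), (86, 34), (86, 46), (86, 47), (86, 54), (87, 58), (87, 73), (87, 78), (87, 79), (88, 49), (89, 31), (89, 41), (90, 24), (90, 35), (90, 36), (90, 44), (90, 53), (90, 78), (90, 79), (90, 83), (91, 32), (91, 65), (91, 68), (92,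 32), (92, 38), (92, 44), (92, 57), (92, 68), (92, 79), (92, 81), (92, 84), (93, 57), (93, 62), (93, 68), (93, 73), (93, 75), (93, 76), (93, 79), (93, 83), (93, 86), (94, 26), (94, 59), (94, 61), (94, 76), (95, 29), (95, 43), (95, 57), (95, 74), (95, 78), (95, 80), (95, 83), (95, 84), (96, 65), (97, 25), (97, 28), (97, 37), (97, 49), (97, 59), (98, 24), (98, 39), (98, 40), (98, 49), (98, 50), (99, 49), (99, 94), (100, 29), (100, 37), (100, 53), (100, 60), (100, 67), (100, 75), (100, 79), (100, 80), (100, 85), (101, 76), (101, 83), (102, 18), (102, 36), (102, 69), (102, 70), (102, 72), (102, 80), (102, 84), (103, 84), (104, 39), (104, 55), (104, 60), (104, 87), (107, 33), (107, 97), (108, 93), (109, 80), (109, 84), (109, 86), (109, 98), (110, 33), (110, 97), (111, 32), (111, 44), (111, 47), (111, 71), (111, 74), (111, 84), (111, 107), (112, 65), (113, 57), (113, 85), (114, 51), (114, 74), (115, 44), (115, 84), (115, 112), (116, 30), (116, 65), (116, 109), (118,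 97), (119, 58), (119, 90), (119, 95), (120, 101), (121, 52), (121, 65), (121, 95), (121, 98), (122, 48), (122, 80), (122, 85), (125, 84), (127, 78), (127, 104), (128, 93), (130, 112), (130, 127), (132, 68), (132, 127), (133, 40), (133, 41), (133, 94), (133, 115), (133, 118), (134, 51), (134, 100), (134, 102), (135, 47), (136, 101), (137, 48), (137, 97), (137, 101), (139, 77), (139, 134), (140, 136), (143, 133), (145, 78), (151, 98), (152, 101), (153, 79), (166, 63)]

/-- The 126 members commuting with an apart pair, in numbers. -/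
def w0List : List Nat :=
  [3, 12, 17, 18, 33, 34, 48, 63, 143, 177, 257, 258, 279, 295, 309, 310, 315, 319, 401, 417, 441, 443, 513, 514, 539, 555, 567, 569, 570, 575, 657, 673, 693, 695, 775, 779, 789, 790, 793, 794, 805, 806, 809, 810, 897, 947, 951, 955, 1044, 1048, 1053, 1054, 1059, 1084, 1175, 1179, 1283, 1313, 1314, 1323, 1339, 1539, 1569, 1570, 1575, 1591, 1793, 1794, 1843, 1847, 1851, 1955, 1965, 1969, 1971, 2067, 2084, 2088, 2093, 2094, 2108, 2215, 2219, 2307, 2321, 2322, 2331, 2363, 2563, 2577, 2578, 2583, 2615, 2817, 2818, 2867, 2871, 2875, 2963, 2973, 2993, 2995, 3125, 3126, 3129, 3130, 3231, 3247, 3251, 3261, 3469, 3519, 3596, 3636, 3725, 3775, 3855, 3859, 3875, 3891, 3973, 3977, 3981, 3983, 3997, 4013]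

/-- The base six. -/
def oList : List Nat :=
  [3, 12, 48, 63, 3855, 3891]

/-- The completions of the base triangle to six points, no three on a line. -/
def arcs : List (List Nat) :=
  [[63, 3855, 3891], [819, 3087, 3903], [831, 3135, 3843]]

/-- The first point off the plane. -/
def x1 : Nat :=
  1059

/-- Words fixing the six, moving it. -/
def tr1x : List (Nat × List Nat) :=
  [(1059, []), (1068, [48, 3135]), (1071, [48, 3132]), (1075, [51]), (1084, [3891]), (1087, [831]), (1827, [48, 3084]), (1839, [48, 60]), (1843, [63]), (1855, [819]), (2064, [3123]), (2067, [48]), (2076, [3135]), (2079, [3132]), (2096, [48, 3123]), (2099, [48, 51]), (2108, [48, 3891]), (2111, [48, 831]), (2835, [3084]), (2847, [60]), (2867, [48, 63]), (2879, [48, 819]), (3091, [48, 3075]), (3100, [48, 3903]), (3103, [48, 3843]), (3107, [3075]), (3116, [3903]), (3119, [3843]), (3859, [48, 3855]), (3871, [48, 3087]), (3875, [3855]), (3887, [3087])]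

/-- Representatives of second points. -/
def x2s : List Nat :=
  [5, 53, 441, 447]

/-- Words fixing the six and the first point. -/
def tr2x : List (Nat × Nat × List Nat) :=
  [(5, 5, []), (6, 5, [3]), (9, 5, [12]), (10, 5, [3, 12]), (53, 53, []), (54, 53, [3]), (57, 53, [12]), (58, 53, [3, 12]), (393, 5, [783]), (399, 5, [771]), (441, 441, []), (447, 447, []), (645, 5, [3, 771]), (655, 5, [3, 783]), (693, 441, [12]), (703, 447, [12]), (3077, 441, [783]), (3078, 441, [3, 783]), (3081, 441, [3, 771]), (3082, 441, [771]), (3125, 447, [771]), (3126, 447, [3, 771]), (3129, 447, [3, 783]), (3130, 447, [783]), (3465, 447, [3, 12]), (3471, 53, [771]), (3513, 53, [783]), (3519, 441, [3, 12]), (3717, 447, [3]), (3727, 53, [3, 783]), (3765, 53, [3, 771]), (3775, 441, [3])]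

/-- Words moving the base set to the possible ones. -/
def wWords : List (List Nat) :=
  [[], [771], [783], [15]]

/-- Derivations with the 0th second point. -/
def cases0 : List (Nat × Nat × List (Nat × Nat) × Option Nat × List Nat) :=
  [(5, 267, [(6, 2), (6, 4), (7, 0), (7, 1), (11, 10), (12, 9)], none, [5, 3749, 2074]),
    (5, 271, [(6, 2), (6, 4), (7, 0), (7, 1), (11, 10), (12, 9)], none, [5, 3749, 2074]),
    (5, 315, [(6, 2), (6, 4), (7, 0), (7, 1), (11, 10), (12, 9)], none, [5, 3749, 2074]),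
    (5, 319, [(6, 2), (6, 4), (7, 0), (7, 1), (11, 10), (12, 9)], none, [5, 3749, 2074]),
    (5, 516, [(6, 2), (6, 4), (7, 0), (7, 1), (11, 10), (12, 9)], none, [5, 3749, 2074]),
    (5, 519, [(6, 2), (6, 4), (7, 0), (7, 1), (11, 10), (12, 9)], none, [5, 3749, 2074]),
    (5, 524, [(6, 2), (6, 4), (7, 0), (7, 1), (11, 10), (12, 9)], none, [5, 3749, 2074]),
    (5, 527, [(6, 2), (6, 4), (7, 0), (7, 1), (11, 10), (12, 9)], none, [5, 3749, 2074]),
    (5, 564, [(6, 2), (6, 4), (7, 0), (7, 1), (11, 10), (12, 9)], none, [5, 3749, 2074]),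
    (5, 567, [(6, 2), (6, 4), (7, 0), (7, 1), (11, 10), (12, 9)], none, [5, 3749, 2074]),
    (5, 572, [(6, 2), (6, 4), (7, 0), (7, 1), (11, 10), (12, 9)], none, [5, 3749, 2074]),
    (5, 575, [(6, 2), (6, 4), (7, 0), (7, 1), (11, 10), (12, 9)], none, [5, 3749, 2074]),
    (5, 775, [(6, 2), (6, 4), (7, 0), (7, 1), (11, 10), (12, 9)], none, [5, 3749, 2074]),
    (5, 779, [(6, 2), (6, 4), (7, 0), (7, 1), (11, 10), (12, 9)], none, [5, 3749, 2074]),
    (5, 823, [(6, 2), (6, 4), (7, 0), (7, 1), (11, 10), (12, 9)], none, [5, 3749, 2074]),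
    (5, 827, [(6, 2), (6, 4), (7, 0), (7, 1), (11, 10), (12, 9)], none, [5, 3749, 2074]),
    (5, 3339, [(6, 2), (6, 4), (7, 0), (7, 1), (11, 10), (12, 9)], none, [5, 3749, 2074]),
    (5, 3343, [(6, 2), (6, 4), (7, 0), (7, 1), (11, 10), (12, 9)], none, [5, 3749, 2074]),
    (5, 3387, [(6, 2), (6, 4), (7, 0), (7, 1), (11, 10), (12, 9)], none, [5, 3749, 2074]),
    (5, 3391, [(6, 2), (6, 4), (7, 0), (7, 1), (11, 10), (12, 9)], none, [5, 3749, 2074]),
    (5, 3588, [(6, 2), (6, 4), (7, 0), (7, 1), (11, 10), (12, 9)], none, [5, 3749, 2074]),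
    (5, 3591, [(6, 2), (6, 4), (7, 0), (7, 1), (11, 10), (12, 9)], none, [5, 3749, 2074]),
    (5, 3596, [(6, 2), (6, 4), (7, 0), (7, 1), (11, 10), (12, 9)], none, [5, 3749, 2074]),
    (5, 3599, [(6, 2), (6, 4), (7, 0), (7, 1), (11, 10), (12, 9)], none, [5, 3749, 2074]),
    (5, 3636, [(6, 2), (6, 4), (7, 0), (7, 1), (11, 10), (12, 9)], none, [5, 3749, 2074]),
    (5, 3639, [(6, 2), (6, 4), (7, 0), (7, 1), (11, 10), (12, 9)], none, [5, 3749, 2074]),
    (5, 3644, [(6, 2), (6, 4), (7, 0), (7, 1), (11, 10), (12, 9)], none, [5, 3749, 2074]),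
    (5, 3647, [(6, 2), (6, 4), (7, 0), (7, 1), (11, 10), (12, 9)], none, [5, 3749, 2074]),
    (5, 3847, [(6, 2), (6, 4), (7, 0), (7, 1), (11, 10), (12, 9)], none, [5, 3749, 2074]),
    (5, 3851, [(6, 2), (6, 4), (7, 0), (7, 1), (11, 10), (12, 9)], none, [5, 3749, 2074]),
    (5, 3895, [(6, 2), (6, 4), (7, 0), (7, 1), (11, 10), (12, 9)], none, [5, 3749, 2074]),
    (5, 3899, [(6, 2), (6, 4), (7, 0), (7, 1), (11, 10), (12, 9)], none, [5, 3749, 2074])]

/-- Derivations with the 1th second point. -/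
def cases1 : List (Nat × Nat × List (Nat × Nat) × Option Nat × List Nat) :=
  [(53, 267, [(6, 2), (6, 5), (7, 0), (7, 1), (11, 10), (12, 9)], none, [53, 2854, 665]),
    (53, 271, [(6, 2), (6, 5), (7, 0), (7, 1), (11, 10), (12, 9)], none, [53, 2854, 665]),
    (53, 315, [(6, 2), (6, 5), (7, 0), (7, 1), (11, 10), (12, 9)], none, [53, 2854, 665]),
    (53, 319, [(6, 2), (6, 5), (7, 0), (7, 1), (11, 10), (12, 9)], none, [53, 2854, 665]),
    (53, 516, [(6, 2), (6, 5), (7, 0), (7, 1), (11, 10), (12, 9)], none, [53, 2854, 665]),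
    (53, 519, [(6, 2), (6, 5), (7, 0), (7, 1), (11, 10), (12, 9)], none, [53, 2854, 665]),
    (53, 524, [(6, 2), (6, 5), (7, 0), (7, 1), (11, 10), (12, 9)], none, [53, 2854, 665]),
    (53, 527, [(6, 2), (6, 5), (7, 0), (7, 1), (11, 10), (12, 9)], none, [53, 2854, 665]),
    (53, 564, [(6, 2), (6, 5), (7, 0), (7, 1), (11, 10), (12, 9)], none, [53, 2854, 665]),
    (53, 567, [(6, 2), (6, 5), (7, 0), (7, 1), (11, 10), (12, 9)], none, [53, 2854, 665]),
    (53, 572, [(6, 2), (6, 5), (7, 0), (7, 1), (11, 10), (12, 9)], none, [53, 2854, 665]),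
    (53, 575, [(6, 2), (6, 5), (7, 0), (7, 1), (11, 10), (12, 9)], none, [53, 2854, 665]),
    (53, 775, [(6, 2), (6, 5), (7, 0), (7, 1), (11, 10), (12, 9)], none, [53, 2854, 665]),
    (53, 779, [(6, 2), (6, 5), (7, 0), (7, 1), (11, 10), (12, 9)], none, [53, 2854, 665]),
    (53, 823, [(6, 2), (6, 5), (7, 0), (7, 1), (11, 10), (12, 9)], none, [53, 2854, 665]),
    (53, 827, [(6, 2), (6, 5), (7, 0), (7, 1), (11, 10), (12, 9)], none, [53, 2854, 665]),
    (53, 3339, [(6, 2), (6, 5), (7, 0), (7, 1), (11, 10), (12, 9)], none, [53, 2854, 665]),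
    (53, 3343, [(6, 2), (6, 5), (7, 0), (7, 1), (11, 10), (12, 9)], none, [53, 2854, 665]),
    (53, 3387, [(6, 2), (6, 5), (7, 0), (7, 1), (11, 10), (12, 9)], none, [53, 2854, 665]),
    (53, 3391, [(6, 2), (6, 5), (7, 0), (7, 1), (11, 10), (12, 9)], none, [53, 2854, 665]),
    (53, 3588, [(6, 2), (6, 5), (7, 0), (7, 1), (11, 10), (12, 9)], none, [53, 2854, 665]),
    (53, 3591, [(6, 2), (6, 5), (7, 0), (7, 1), (11, 10), (12, 9)], none, [53, 2854, 665]),
    (53, 3596, [(6, 2), (6, 5), (7, 0), (7, 1), (11, 10), (12, 9)], none, [53, 2854, 665]),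
    (53, 3599, [(6, 2), (6, 5), (7, 0), (7, 1), (11, 10), (12, 9)], none, [53, 2854, 665]),
    (53, 3636, [(6, 2), (6, 5), (7, 0), (7, 1), (11, 10), (12, 9)], none, [53, 2854, 665]),
    (53, 3639, [(6, 2), (6, 5), (7, 0), (7, 1), (11, 10), (12, 9)], none, [53, 2854, 665]),
    (53, 3644, [(6, 2), (6, 5), (7, 0), (7, 1), (11, 10), (12, 9)], none, [53, 2854, 665]),
    (53, 3647, [(6, 2), (6, 5), (7, 0), (7, 1), (11, 10), (12, 9)], none, [53, 2854, 665]),
    (53, 3847, [(6, 2), (6, 5), (7, 0), (7, 1), (11, 10), (12, 9)], none, [53, 2854, 665]),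
    (53, 3851, [(6, 2), (6, 5), (7, 0), (7, 1), (11, 10), (12, 9)], none, [53, 2854, 665]),
    (53, 3895, [(6, 2), (6, 5), (7, 0), (7, 1), (11, 10), (12, 9)], none, [53, 2854, 665]),
    (53, 3899, [(6, 2), (6, 5), (7, 0), (7, 1), (11, 10), (12, 9)], none, [53, 2854, 665])]

/-- Derivations with the 2th second point. -/
def cases2 : List (Nat × Nat × List (Nat × Nat) × Option Nat × List Nat) :=
  [(441, 267, [(6, 3), (6, 5), (7, 0), (8, 1), (8, 7), (12, 10), (12, 11), (13, 9)], none, [3371, 3594, 3993]),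
    (441, 271, [(6, 3), (6, 5), (7, 0), (8, 1), (8, 7), (12, 10), (12, 11), (13, 9)], none, [2335, 701, 2609]),
    (441, 315, [(6, 2), (6, 3), (6, 4), (6, 5), (7, 0), (7, 1), (7, 4), (7, 5), (7, 6), (8, 1), (8, 3), (8, 4), (8, 5), (8, 6), (8, 7), (9, 3), (9, 4), (9, 5), (9, 7), (9, 8), (10, 7), (10, 8), (11, 8), (13, 1), (13, 4), (13, 5), (13, 6), (13, 8), (13, 9), (13, 10), (14, 6), (14, 8), (15, 8), (15, 12), (18, 3), (18, 4), (18, 5), (18, 6), (18, 7), (18, 9), (18, 10), (18, 11), (18, 13), (18, 14), (18, 16), (18, 17), (19, 6), (19, 7), (19, 9), (19, 10), (19, 12), (19, 13), (19, 14), (19, 15), (19, 17), (20, 6), (20, 7), (20, 9), (20, 11), (20, 12), (20, 13), (20, 15), (20, 16), (21, 10), (21, 11), (21, 14), (21, 15), (22, 14), (22, 15), (23, 10), (23, 11), (24, 18), (24, 19), (24, 21), (24, 22), (24, 23), (25, 20), (25, 21), (25, 23), (27, 18), (27, 19), (28, 14), (28, 15), (29, 20), (29, 21), (29, 22), (29, 23), (29, 28), (30, 13), (30, 15), (31, 13),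 (31, 14), (32, 18), (32, 19), (32, 21), (32, 22), (32, 23), (32, 28), (32, 31), (33, 20), (33, 21), (33, 22), (33, 28), (33, 30), (36, 10), (36, 24), (36, 25), (38, 20), (38, 21), (38, 22), (38, 28), (39, 22), (39, 23), (39, 36), (40, 25), (42, 22), (42, 23)], some 0, []),
    (441, 319, [(6, 2), (6, 3), (6, 4), (6, 5), (7, 0), (7, 1), (7, 4), (7, 5), (7, 6), (8, 1), (8, 3), (8, 4), (8, 5), (8, 6), (8, 7), (9, 3), (9, 4), (9, 5), (9, 7), (9, 8), (10, 7), (10, 8), (12, 8), (13, 1), (13, 4), (13, 5), (13, 6), (13, 8), (13, 9), (13, 10), (14, 6), (14, 8), (15, 8), (15, 12), (17, 8), (18, 3), (18, 4), (18, 5), (18, 6), (18, 7), (18, 9), (18, 10), (18, 12), (18, 13), (18, 14), (18, 16), (19, 6), (19, 7), (19, 9), (19, 10), (19, 11), (19, 13), (19, 14), (19, 15), (20, 7), (20, 10), (20, 12), (20, 13), (20, 15), (20, 16), (20, 17), (21, 6), (21, 9), (21, 11), (21, 12), (21, 14), (21, 15), (21, 17), (22, 7), (22, 13), (22, 15), (22, 17), (23, 9), (23, 12), (24, 18),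 (24, 19), (24, 20), (24, 22), (26, 20), (26, 21), (26, 23), (27, 8), (27, 20), (27, 21), (27, 22), (27, 23), (28, 13), (28, 15), (28, 17), (29, 18), (30, 14), (30, 15), (30, 17), (30, 27), (31, 13), (31, 14), (32, 18), (32, 19), (32, 21), (32, 23), (32, 30), (32, 31), (33, 20), (33, 21), (33, 22), (34, 31), (35, 22), (35, 23), (36, 9), (36, 17), (36, 26), (37, 22), (37, 30), (40, 24), (40, 35), (43, 24), (43, 32)], some 0, []),
    (441, 516, [(6, 2), (6, 3), (6, 4), (6, 5), (7, 0), (7, 1), (7, 4), (7, 5), (7, 6), (8, 1), (8, 3), (8, 4), (8, 5), (8, 7), (9, 3), (9, 4), (9, 5), (9, 7), (10, 7), (10, 8), (11, 8), (12, 8), (13, 1), (13, 4), (13, 5), (13, 6), (13, 8), (13, 9), (13, 10), (14, 6), (15, 8), (15, 12), (16, 8), (17, 8), (18, 3), (18, 4), (18, 5), (18, 10), (18, 11), (18, 12), (18, 15), (18, 16), (19, 7), (19, 9), (19, 11), (19, 12), (19, 13), (19, 15), (19, 16), (20, 7), (20, 9), (20, 10), (20, 12), (20, 13), (20, 14), (20, 15), (20, 17), (21, 7), (21,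 9), (21, 10), (21, 11), (21, 13), (21, 14), (21, 16), (21, 17), (22, 9), (22, 11), (22, 12), (23, 18), (23, 20), (23, 21), (24, 18), (24, 19), (24, 21), (24, 22), (25, 18), (25, 19), (25, 20), (25, 22), (26, 20), (26, 21), (27, 18), (28, 15), (28, 16), (29, 13), (29, 15), (29, 17), (29, 26), (30, 16), (30, 17), (32, 18), (32, 19), (32, 20), (32, 22), (32, 28), (32, 29), (33, 18), (33, 21), (33, 28), (33, 30), (34, 8), (34, 29), (34, 30), (35, 24), (35, 25), (39, 23), (39, 24), (39, 26), (39, 36), (41, 25), (41, 26), (49, 27), (50, 27), (52, 32), (52, 33), (53, 22), (53, 38)], some 3, []),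
    (441, 519, [(6, 3), (6, 4), (7, 0), (8, 1), (8, 7), (12, 10), (12, 11), (13, 9)], none, [2843, 949, 151]),
    (441, 524, [(6, 2), (6, 3), (6, 4), (6, 5), (7, 0), (7, 1), (7, 4), (7, 5), (7, 6), (8, 1), (8, 3), (8, 4), (8, 5), (9, 3), (9, 4), (9, 5), (9, 7), (10, 7), (10, 8), (11, 8), (12, 8), (13, 1), (13, 4), (13, 5), (13, 6), (13, 9), (13, 10), (14, 6), (14, 8), (15, 8), (15, 12), (16, 8), (18, 3), (18, 4), (18, 5), (18, 10), (18, 11), (18, 12), (18, 13), (18, 15), (18, 16), (18, 17), (19, 9), (19, 11), (19, 12), (19, 14), (19, 15), (19, 16), (19, 17), (20, 9), (20, 10), (20, 12), (20, 13), (20, 14), (20, 16), (21, 9), (21, 10), (21, 11), (21, 13), (21, 14), (21, 15), (22, 18), (22, 20), (22, 21), (23, 18), (23, 19), (23, 21), (24, 18), (24, 19), (24, 20), (25, 18), (25, 19), (26, 20), (26, 21), (27, 15), (27, 16), (28, 14), (28, 16), (28, 26), (29, 15), (30, 19), (30, 20), (30, 21), (30, 28), (30, 29), (31, 18), (31, 19), (31, 21), (31, 27), (31, 29),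 (32, 18), (32, 19), (32, 20), (32, 27), (32, 28), (35, 20), (35, 21), (36, 28), (36, 29), (37, 23), (37, 24), (38, 12), (38, 22), (38, 24), (38, 26), (38, 35), (39, 28), (40, 23), (40, 26), (47, 23), (47, 24), (48, 25), (49, 25), (51, 31), (51, 32), (52, 33), (52, 47)], some 3, []),
    (441, 527, [(6, 3), (6, 4), (7, 0), (8, 1), (8, 7), (12, 10), (12, 11), (13, 9)], none, [3628, 3329, 1557]),
    (441, 564, [(6, 3), (7, 6), (8, 3), (8, 6), (11, 9), (11, 10), (12, 7)], none, [2052, 2491, 155]),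
    (441, 567, [(6, 2), (6, 3), (6, 4), (6, 5), (7, 0), (7, 1), (7, 4), (7, 5), (7, 6), (8, 1), (8, 3), (8, 4), (8, 5), (8, 6), (8, 7), (9, 3), (9, 4), (9, 5), (9, 7), (9, 8), (10, 7), (10, 8), (11, 8), (13, 1), (13, 4), (13, 5), (13, 6), (13, 8), (13, 9), (13, 10), (14, 6), (14, 8), (15, 12), (16, 8), (17, 8), (18, 3), (18, 4), (18, 5), (18, 6), (18, 7), (18, 9), (18, 10), (18, 11), (18, 13), (18, 14), (18, 15), (19, 6), (19, 7), (19, 9), (19, 10), (19, 12), (19, 13), (19, 14), (19, 16), (20, 6), (20, 9), (20, 11), (20, 12), (20, 14), (20, 16), (20, 17), (21, 7), (21, 10), (21, 11), (21, 13), (21, 15), (21, 16), (21, 17), (22, 7), (22, 13), (22, 16), (22, 17), (23, 9), (23, 11), (24, 18), (24, 19), (24, 21), (24, 22), (25, 20), (25, 21), (25, 23), (27, 8), (27, 20), (27, 21), (27, 22), (27, 23), (28, 13), (28, 16), (28, 17), (29, 18), (30, 14), (30, 16), (30, 17), (30, 27), (31, 13), (31, 14), (32, 18), (32, 19), (32, 20), (32, 23), (32, 30), (32, 31), (33,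 31), (34, 20), (34, 21), (34, 22), (35, 22), (35, 23), (36, 9), (36, 17), (36, 25), (37, 22), (37, 30), (40, 24), (40, 35), (43, 24), (43, 32)], some 0, []),
    (441, 572, [(6, 2), (7, 1), (7, 4), (8, 3), (8, 6), (12, 9), (12, 11), (13, 10)], none, [3607, 903, 2609]),
    (441, 575, [(6, 2), (6, 3), (6, 4), (6, 5), (7, 0), (7, 1), (7, 4), (7, 5), (7, 6), (8, 1), (8, 3), (8, 4), (8, 5), (8, 6), (8, 7), (9, 3), (9, 4), (9, 5), (9, 7), (9, 8), (10, 7), (10, 8), (12, 8), (13, 1), (13, 4), (13, 5), (13, 6), (13, 8), (13, 9), (13, 10), (14, 6), (14, 8), (15, 12), (16, 8), (18, 3), (18, 4), (18, 5), (18, 6), (18, 7), (18, 9), (18, 10), (18, 12), (18, 13), (18, 14), (18, 15), (18, 17), (19, 6), (19, 7), (19, 9), (19, 10), (19, 11), (19, 13), (19, 14), (19, 16), (19, 17), (20, 10), (20, 12), (20, 14), (20, 16), (21, 6), (21, 7), (21, 9), (21, 11), (21, 12), (21, 13), (21, 15), (21, 16), (22, 14), (22, 16), (23, 10), (23, 12), (24, 18), (24, 19), (24, 20), (24, 22),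 (24, 23), (26, 20), (26, 21), (26, 23), (27, 18), (27, 19), (28, 14), (28, 16), (29, 20), (29, 21), (29, 22), (29, 23), (29, 28), (30, 13), (30, 16), (31, 13), (31, 14), (32, 18), (32, 19), (32, 20), (32, 22), (32, 23), (32, 28), (32, 31), (34, 20), (34, 21), (34, 22), (34, 28), (34, 30), (36, 10), (36, 24), (36, 26), (38, 20), (38, 21), (38, 22), (38, 28), (39, 22), (39, 23), (39, 36), (40, 26), (41, 22), (41, 23)], some 0, []),
    (441, 775, [(6, 2), (6, 3), (6, 4), (6, 5), (7, 0), (7, 1), (7, 4), (7, 5), (7, 6), (8, 1), (8, 3), (8, 4), (8, 5), (8, 7), (9, 3), (9, 4), (9, 5), (9, 7), (10, 7), (10, 8), (11, 8), (12, 8), (13, 1), (13, 4), (13, 5), (13, 6), (13, 8), (13, 9), (13, 10), (14, 6), (15, 8), (15, 12), (16, 8), (17, 8), (18, 3), (18, 4), (18, 5), (18, 10), (18, 11), (18, 12), (18, 15), (18, 16), (19, 7), (19, 9), (19, 11), (19, 12), (19, 13), (19, 15), (19, 16), (20, 7), (20, 9), (20, 10), (20, 12), (20, 13), (20, 14), (20, 15), (20, 17), (21, 7),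 (21, 9), (21, 10), (21, 11), (21, 13), (21, 14), (21, 16), (21, 17), (22, 9), (22, 11), (22, 12), (23, 18), (23, 20), (23, 21), (24, 18), (24, 19), (24, 21), (24, 22), (25, 18), (25, 19), (25, 20), (25, 22), (26, 20), (26, 21), (27, 18), (28, 15), (28, 16), (29, 13), (29, 15), (29, 17), (29, 26), (30, 16), (30, 17), (32, 18), (32, 19), (32, 20), (32, 22), (32, 28), (32, 29), (33, 18), (33, 21), (33, 28), (33, 30), (34, 8), (34, 29), (34, 30), (35, 24), (35, 25), (39, 23), (39, 24), (39, 26), (39, 36), (41, 25), (41, 26), (49, 27), (50, 27), (52, 32), (52, 33), (53, 22), (53, 38)], some 0, []),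
    (441, 779, [(6, 2), (6, 3), (6, 4), (6, 5), (7, 0), (7, 1), (7, 4), (7, 5), (7, 6), (8, 1), (8, 3), (8, 4), (8, 5), (9, 3), (9, 4), (9, 5), (9, 7), (10, 7), (10, 8), (11, 8), (12, 8), (13, 1), (13, 4), (13, 5), (13, 6), (13, 9), (13, 10), (14, 6), (14, 8), (15, 8), (15, 12), (16, 8), (18, 3), (18, 4), (18, 5), (18, 10), (18, 11), (18, 12), (18, 13), (18, 15), (18, 16), (18, 17), (19, 9), (19, 11), (19, 12), (19, 14), (19, 15), (19, 16), (19, 17), (20, 9), (20, 10), (20, 12), (20, 13), (20, 14), (20, 16), (21, 9), (21, 10), (21, 11), (21, 13), (21, 14), (21, 15), (22, 18), (22, 20), (22, 21), (23, 18), (23, 19), (23, 21), (24, 18), (24, 19), (24, 20), (25, 18), (25, 19), (26, 20), (26, 21), (27, 15), (27, 16), (28, 14), (28, 16), (28, 26), (29, 15), (30, 19), (30, 20), (30, 21), (30, 28), (30, 29), (31, 18), (31, 19), (31, 21), (31, 27), (31, 29), (32, 18), (32, 19), (32, 20), (32, 27), (32, 28), (35, 20), (35, 21), (36, 28), (36, 29), (37, 23), (37, 24),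 (38, 12), (38, 22), (38, 24), (38, 26), (38, 35), (39, 28), (40, 23), (40, 26), (47, 23), (47, 24), (48, 25), (49, 25), (51, 31), (51, 32), (52, 33), (52, 47)], some 0, []),
    (441, 823, [(6, 2), (6, 3), (6, 4), (6, 5), (7, 0), (7, 1), (7, 4), (7, 5), (7, 6), (8, 1), (8, 3), (8, 4), (8, 5), (8, 6), (8, 7), (9, 3), (9, 4), (9, 5), (9, 7), (9, 8), (10, 7), (11, 8), (12, 8), (13, 1), (13, 4), (13, 5), (13, 6), (13, 8), (13, 9), (13, 10), (14, 6), (15, 8), (15, 12), (16, 8), (18, 3), (18, 4), (18, 5), (18, 6), (18, 9), (18, 11), (18, 12), (18, 15), (18, 16), (18, 17), (19, 7), (19, 11), (19, 12), (19, 13), (19, 15), (19, 16), (19, 17), (20, 6), (20, 7), (20, 9), (20, 10), (20, 11), (20, 13), (20, 14), (20, 15), (21, 6), (21, 7), (21, 9), (21, 10), (21, 12), (21, 13), (21, 14), (21, 16), (22, 15), (22, 16), (23, 11), (23, 12), (24, 23), (25, 18), (25, 19), (25, 20), (25, 22), (25, 23), (26, 19), (26, 21), (26, 23), (27, 18), (28, 15), (28, 16), (29, 20), (29,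 21), (30, 13), (30, 16), (30, 29), (31, 15), (33, 18), (33, 19), (33, 20), (33, 22), (33, 23), (33, 28), (33, 31), (34, 18), (34, 21), (34, 22), (34, 28), (34, 30), (36, 25), (36, 26), (38, 20), (38, 21), (39, 30), (39, 31), (40, 12), (40, 26), (40, 29), (41, 30), (42, 25), (42, 29), (46, 33), (46, 34), (50, 22), (50, 27)], some 3, []),
    (441, 827, [(6, 2), (6, 3), (6, 4), (6, 5), (7, 0), (7, 1), (7, 4), (7, 5), (7, 6), (8, 1), (8, 3), (8, 4), (8, 5), (8, 6), (9, 3), (9, 4), (9, 5), (9, 7), (9, 8), (10, 7), (11, 8), (12, 8), (13, 1), (13, 4), (13, 5), (13, 6), (13, 9), (13, 10), (14, 6), (14, 8), (15, 8), (15, 12), (16, 8), (17, 8), (18, 3), (18, 4), (18, 5), (18, 6), (18, 9), (18, 11), (18, 12), (18, 13), (18, 15), (18, 16), (19, 11), (19, 12), (19, 14), (19, 15), (19, 16), (20, 6), (20, 9), (20, 10), (20, 11), (20, 13), (20, 14), (20, 16), (20, 17), (21, 6), (21, 9), (21, 10), (21, 12), (21, 13), (21, 14), (21, 15), (21, 17), (22, 13), (22, 15), (22, 16),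 (24, 18), (24, 19), (24, 20), (24, 22), (25, 19), (25, 21), (26, 8), (26, 20), (26, 21), (26, 22), (27, 13), (27, 15), (27, 16), (29, 14), (29, 15), (29, 17), (29, 26), (30, 16), (30, 17), (31, 20), (31, 21), (31, 29), (31, 30), (32, 18), (32, 19), (32, 21), (32, 22), (32, 27), (32, 29), (33, 18), (33, 19), (33, 20), (33, 22), (33, 27), (33, 30), (34, 29), (34, 30), (38, 24), (38, 25), (39, 24), (39, 26), (41, 25), (41, 26), (46, 32), (46, 33), (50, 24), (50, 25), (51, 22), (51, 28)], some 3, []),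
    (441, 3339, [(6, 2), (6, 3), (6, 4), (6, 5), (7, 0), (7, 1), (7, 4), (7, 5), (7, 6), (8, 1), (8, 3), (8, 4), (8, 5), (8, 6), (8, 7), (9, 3), (9, 4), (9, 5), (9, 7), (9, 8), (10, 7), (10, 8), (12, 8), (13, 1), (13, 4), (13, 5), (13, 6), (13, 8), (13, 9), (13, 10), (14, 6), (14, 8), (15, 8), (15, 12), (17, 8), (18, 3), (18, 4), (18, 5), (18, 6), (18, 7), (18, 9), (18, 10), (18, 12), (18, 13), (18, 14), (18, 16), (19, 6), (19, 7), (19, 9), (19, 10), (19, 11), (19, 13), (19, 14), (19, 15), (20, 7), (20, 10), (20, 12), (20, 13), (20, 15), (20, 16), (20, 17), (21, 6), (21, 9), (21, 11), (21, 12), (21, 14), (21, 15), (21, 17), (22, 7), (22, 13), (22, 15), (22, 17), (23, 9), (23, 12), (24, 18), (24, 19), (24, 20), (24, 22), (26, 20), (26, 21), (26, 23), (27, 8), (27, 20), (27, 21), (27, 22), (27, 23), (28, 13), (28, 15), (28, 17), (29, 18), (30, 14), (30, 15), (30, 17), (30, 27), (31, 13), (31, 14), (32, 18), (32, 19), (32, 21), (32, 23), (32, 30), (32, 31), (33,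 20), (33, 21), (33, 22), (34, 31), (35, 22), (35, 23), (36, 9), (36, 17), (36, 26), (37, 22), (37, 30), (40, 24), (40, 35), (43, 24), (43, 32)], some 3, []),
    (441, 3343, [(7, 4), (8, 4), (8, 6), (10, 6), (10, 9), (11, 7)], none, [3371, 953, 2618]),
    (441, 3387, [(7, 4), (8, 4), (8, 6), (10, 6), (10, 9), (11, 7)], none, [2335, 3585, 3741]),
    (441, 3391, [(6, 2), (6, 3), (6, 4), (6, 5), (7, 0), (7, 1), (7, 4), (7, 5), (7, 6), (8, 1), (8, 3), (8, 4), (8, 5), (8, 6), (8, 7), (9, 3), (9, 4), (9, 5), (9, 7), (9, 8), (10, 7), (10, 8), (11, 8), (13, 1), (13, 4), (13, 5), (13, 6), (13, 8), (13, 9), (13, 10), (14, 6), (14, 8), (15, 8), (15, 12), (18, 3), (18, 4), (18, 5), (18, 6), (18, 7), (18, 9), (18, 10), (18, 11), (18, 13), (18, 14), (18, 16), (18, 17), (19, 6), (19, 7), (19, 9), (19, 10), (19, 12), (19, 13), (19, 14), (19, 15), (19, 17), (20, 6), (20, 7), (20, 9), (20, 11), (20, 12), (20, 13), (20, 15), (20, 16), (21, 10), (21, 11), (21, 14), (21, 15),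 (22, 14), (22, 15), (23, 10), (23, 11), (24, 18), (24, 19), (24, 21), (24, 22), (24, 23), (25, 20), (25, 21), (25, 23), (27, 18), (27, 19), (28, 14), (28, 15), (29, 20), (29, 21), (29, 22), (29, 23), (29, 28), (30, 13), (30, 15), (31, 13), (31, 14), (32, 18), (32, 19), (32, 21), (32, 22), (32, 23), (32, 28), (32, 31), (33, 20), (33, 21), (33, 22), (33, 28), (33, 30), (36, 10), (36, 24), (36, 25), (38, 20), (38, 21), (38, 22), (38, 28), (39, 22), (39, 23), (39, 36), (40, 25), (42, 22), (42, 23)], some 3, []),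
    (441, 3588, [(6, 3), (7, 6), (8, 3), (8, 6), (11, 9), (11, 10), (12, 7)], none, [531, 2717, 2353]),
    (441, 3591, [(6, 2), (6, 3), (6, 4), (6, 5), (7, 0), (7, 1), (7, 4), (7, 5), (7, 6), (8, 1), (8, 3), (8, 4), (8, 5), (8, 6), (8, 7), (9, 3), (9, 4), (9, 5), (9, 7), (9, 8), (10, 7), (10, 8), (12, 8), (13, 1), (13, 4), (13, 5), (13, 6), (13, 8), (13, 9), (13, 10), (14, 6), (14, 8), (15, 12), (16, 8), (18, 3), (18, 4), (18, 5), (18, 6), (18, 7), (18, 9), (18, 10), (18, 12), (18, 13), (18, 14), (18, 15), (18, 17), (19, 6), (19, 7), (19, 9), (19, 10), (19, 11), (19, 13), (19, 14), (19, 16), (19, 17), (20, 10), (20, 12), (20, 14), (20, 16), (21, 6), (21, 7), (21, 9), (21, 11), (21, 12), (21, 13), (21, 15), (21, 16), (22, 14), (22, 16), (23, 10), (23, 12), (24, 18), (24, 19), (24, 20), (24, 22), (24, 23), (26, 20), (26, 21), (26, 23), (27, 18), (27, 19), (28, 14), (28, 16), (29, 20), (29, 21), (29, 22), (29, 23), (29, 28), (30, 13), (30, 16), (31, 13), (31,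 14), (32, 18), (32, 19), (32, 20), (32, 22), (32, 23), (32, 28), (32, 31), (34, 20), (34, 21), (34, 22), (34, 28), (34, 30), (36, 10), (36, 24), (36, 26), (38, 20), (38, 21), (38, 22), (38, 28), (39, 22), (39, 23), (39, 36), (40, 26), (41, 22), (41, 23)], some 3, []),
    (441, 3596, [(6, 2), (6, 3), (6, 4), (6, 5), (7, 0), (7, 1), (7, 4), (7, 5), (7, 6), (8, 1), (8, 3), (8, 4), (8, 5), (8, 6), (9, 3), (9, 4), (9, 5), (9, 7), (9, 8), (10, 7), (11, 8), (12, 8), (13, 1), (13, 4), (13, 5), (13, 6), (13, 9), (13, 10), (14, 6), (14, 8), (15, 8), (15, 12), (16, 8), (17, 8), (18, 3), (18, 4), (18, 5), (18, 6), (18, 9), (18, 11), (18, 12), (18, 13), (18, 15), (18, 16), (19, 11), (19, 12), (19, 14), (19, 15), (19, 16), (20, 6), (20, 9), (20, 10), (20, 11), (20, 13), (20, 14), (20, 16), (20, 17), (21, 6), (21, 9), (21, 10), (21, 12), (21, 13), (21, 14), (21, 15), (21, 17), (22, 13), (22, 15), (22, 16), (24, 18), (24, 19), (24, 20), (24, 22), (25, 19), (25, 21), (26,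 8), (26, 20), (26, 21), (26, 22), (27, 13), (27, 15), (27, 16), (29, 14), (29, 15), (29, 17), (29, 26), (30, 16), (30, 17), (31, 20), (31, 21), (31, 29), (31, 30), (32, 18), (32, 19), (32, 21), (32, 22), (32, 27), (32, 29), (33, 18), (33, 19), (33, 20), (33, 22), (33, 27), (33, 30), (34, 29), (34, 30), (38, 24), (38, 25), (39, 24), (39, 26), (41, 25), (41, 26), (46, 32), (46, 33), (50, 24), (50, 25), (51, 22), (51, 28)], some 0, []),
    (441, 3599, [(7, 5), (8, 5), (8, 6), (10, 6), (10, 9), (11, 7)], none, [2843, 3334, 1565]),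
    (441, 3636, [(6, 2), (6, 3), (6, 4), (6, 5), (7, 0), (7, 1), (7, 4), (7, 5), (7, 6), (8, 1), (8, 3), (8, 4), (8, 5), (8, 6), (8, 7), (9, 3), (9, 4), (9, 5), (9, 7), (9, 8), (10, 7), (11, 8), (12, 8), (13, 1), (13, 4), (13, 5), (13, 6), (13, 8), (13, 9), (13, 10), (14, 6), (15, 8), (15, 12), (16, 8), (18, 3), (18, 4), (18, 5), (18, 6), (18, 9), (18, 11), (18, 12), (18, 15), (18, 16), (18, 17), (19, 7), (19, 11), (19, 12), (19, 13), (19, 15), (19, 16), (19, 17), (20, 6), (20, 7), (20, 9), (20, 10), (20, 11), (20, 13), (20, 14), (20, 15), (21, 6), (21, 7), (21, 9), (21, 10), (21, 12), (21, 13), (21, 14), (21, 16), (22, 15), (22, 16), (23, 11), (23, 12), (24, 23), (25, 18), (25, 19), (25, 20), (25, 22), (25, 23), (26, 19), (26, 21), (26, 23), (27, 18), (28, 15), (28, 16), (29, 20), (29, 21), (30, 13), (30, 16), (30, 29), (31, 15), (33, 18), (33, 19), (33, 20), (33, 22), (33, 23), (33, 28), (33, 31), (34, 18), (34, 21), (34, 22), (34, 28), (34, 30), (36, 25),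 (36, 26), (38, 20), (38, 21), (39, 30), (39, 31), (40, 12), (40, 26), (40, 29), (41, 30), (42, 25), (42, 29), (46, 33), (46, 34), (50, 22), (50, 27)], some 0, []),
    (441, 3639, [(7, 5), (8, 5), (8, 6), (10, 6), (10, 9), (11, 7)], none, [3628, 445, 1157]),
    (441, 3644, [(6, 2), (7, 1), (7, 5), (8, 3), (8, 6), (12, 9), (12, 11), (13, 10)], none, [2612, 3467, 151]),
    (441, 3647, [(6, 2), (6, 3), (6, 4), (6, 5), (7, 0), (7, 1), (7, 4), (7, 5), (7, 6), (8, 1), (8, 3), (8, 4), (8, 5), (8, 6), (8, 7), (9, 3), (9, 4), (9, 5), (9, 7), (9, 8), (10, 7), (10, 8), (11, 8), (13, 1), (13, 4), (13, 5), (13, 6), (13, 8), (13, 9), (13, 10), (14, 6), (14, 8), (15, 12), (16, 8), (17, 8), (18, 3), (18, 4), (18, 5), (18, 6), (18, 7), (18, 9), (18, 10), (18, 11), (18, 13), (18, 14), (18, 15), (19, 6), (19, 7), (19, 9), (19, 10), (19, 12), (19, 13), (19, 14), (19, 16), (20, 6), (20, 9), (20, 11), (20, 12), (20, 14), (20, 16), (20, 17), (21, 7), (21, 10), (21, 11), (21, 13),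 (21, 15), (21, 16), (21, 17), (22, 7), (22, 13), (22, 16), (22, 17), (23, 9), (23, 11), (24, 18), (24, 19), (24, 21), (24, 22), (25, 20), (25, 21), (25, 23), (27, 8), (27, 20), (27, 21), (27, 22), (27, 23), (28, 13), (28, 16), (28, 17), (29, 18), (30, 14), (30, 16), (30, 17), (30, 27), (31, 13), (31, 14), (32, 18), (32, 19), (32, 20), (32, 23), (32, 30), (32, 31), (33, 31), (34, 20), (34, 21), (34, 22), (35, 22), (35, 23), (36, 9), (36, 17), (36, 25), (37, 22), (37, 30), (40, 24), (40, 35), (43, 24), (43, 32)], some 3, []),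
    (441, 3847, [(6, 3), (7, 6), (8, 3), (8, 6), (11, 9), (11, 10), (12, 7)], none, [2059, 3346, 1305]),
    (441, 3851, [(6, 2), (7, 1), (7, 5), (8, 3), (8, 6), (12, 9), (12, 11), (13, 10)], none, [1831, 306, 1557]),
    (441, 3895, [(6, 3), (7, 6), (8, 3), (8, 6), (11, 9), (11, 10), (12, 7)], none, [1287, 3626, 3989]),
    (441, 3899, [(6, 2), (7, 1), (7, 4), (8, 3), (8, 6), (12, 9), (12, 11), (13, 10)], none, [1583, 521, 3993])]

/-- Derivations with the 3th second point. -/
def cases3 : List (Nat × Nat × List (Nat × Nat) × Option Nat × List Nat) :=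
  [(447, 267, [(6, 2), (6, 3), (6, 4), (6, 5), (7, 0), (7, 1), (7, 4), (7, 5), (8, 1), (8, 3), (8, 4), (8, 5), (8, 7), (9, 3), (9, 4), (9, 5), (10, 8), (11, 7), (11, 8), (12, 7), (12, 8), (13, 1), (13, 4), (13, 5), (13, 8), (13, 11), (13, 12), (14, 8), (15, 9), (15, 10), (16, 8), (17, 3), (17, 4), (17, 5), (17, 7), (17, 10), (17, 11), (17, 12), (17, 13), (17, 14), (17, 15), (18, 7), (18, 9), (18, 11), (18, 12), (18, 13), (18, 14), (18, 16), (19, 9), (19, 10), (19, 12), (19, 14), (19, 16), (20, 7), (20, 9), (20, 10), (20, 11), (20, 13), (20, 15), (20, 16), (21, 10), (21, 12), (22, 17), (22, 19), (22, 20), (22, 21), (23, 13), (23, 14), (23, 17), (23, 18), (23, 20), (24, 17), (24, 18), (24, 19), (24, 21), (25, 13), (25, 14), (25, 15), (26, 17), (27, 14), (27, 16), (28, 8), (28, 19), (28, 20), (28, 21), (28, 27), (29, 13), (29, 16), (30, 17), (30, 18), (30, 19), (30, 21), (30, 25), (30, 27), (31, 25), (32, 19), (32, 20), (32, 27), (32, 29), (33, 12), (33, 22),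 (33, 24), (35, 19), (35, 20), (35, 27), (36, 22), (36, 23), (38, 21), (39, 23), (39, 24), (43, 22), (43, 23), (43, 37), (49, 23), (49, 24), (51, 43), (51, 48)], some 1, []),
    (447, 271, [(6, 2), (6, 3), (6, 4), (6, 5), (7, 0), (7, 1), (7, 4), (7, 5), (8, 1), (8, 3), (8, 4), (8, 5), (8, 7), (9, 3), (9, 4), (9, 5), (10, 8), (11, 7), (11, 8), (12, 7), (12, 8), (13, 1), (13, 4), (13, 5), (13, 8), (13, 11), (13, 12), (14, 8), (15, 9), (15, 10), (16, 8), (17, 3), (17, 4), (17, 5), (17, 7), (17, 10), (17, 11), (17, 12), (17, 13), (17, 14), (17, 15), (18, 7), (18, 9), (18, 11), (18, 12), (18, 13), (18, 14), (18, 16), (19, 9), (19, 10), (19, 12), (19, 14), (19, 16), (20, 7), (20, 9), (20, 10), (20, 11), (20, 13), (20, 15), (20, 16), (21, 10), (21, 12), (22, 17), (22, 19), (22, 20), (22, 21), (23, 13), (23, 14), (23, 17), (23, 18), (23, 20), (24, 17), (24, 18), (24, 19), (24, 21), (25, 13), (25, 14), (25, 15), (26, 17), (27, 14), (27, 16), (28, 8), (28, 19), (28,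 20), (28, 21), (28, 27), (29, 13), (29, 16), (30, 17), (30, 18), (30, 19), (30, 21), (30, 25), (30, 27), (31, 25), (32, 19), (32, 20), (32, 27), (32, 29), (33, 12), (33, 22), (33, 24), (35, 19), (35, 20), (35, 27), (36, 22), (36, 23), (38, 21), (39, 23), (39, 24), (43, 22), (43, 23), (43, 37), (49, 23), (49, 24), (51, 43), (51, 48)], some 2, []),
    (447, 315, [(6, 3), (7, 1), (8, 1), (8, 3), (8, 6), (11, 9), (12, 10), (13, 7)], none, [1044, 305, 1317]),
    (447, 319, [(6, 3), (7, 1), (8, 1), (8, 3), (8, 6), (11, 9), (12, 7), (13, 10)], none, [295, 262, 165]),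
    (447, 516, [(6, 3), (6, 4), (7, 4), (7, 5), (8, 1), (9, 8), (13, 10), (13, 12), (14, 11)], none, [3375, 3593, 1157]),
    (447, 519, [(6, 2), (6, 3), (6, 4), (6, 5), (7, 0), (7, 1), (7, 4), (7, 5), (8, 1), (8, 3), (8, 4), (8, 5), (8, 7), (9, 3), (9, 4), (9, 5), (10, 8), (11, 7), (11, 8), (12, 7), (12, 8), (13, 1), (13, 4), (13, 5), (13, 8), (13, 11), (13, 12), (14, 8), (15, 8), (15, 9), (15, 10), (17, 3), (17, 4), (17, 5), (17, 7), (17, 10), (17, 11), (17, 12), (17, 13), (17, 14), (17, 16), (18, 7), (18, 9), (18, 11), (18, 12), (18, 13), (18, 14), (18, 15), (19, 7), (19, 9), (19, 10), (19, 12), (19, 13), (19, 15), (19, 16), (20, 9), (20, 10), (20, 11), (20, 14), (20, 15), (21, 10), (21, 11), (22, 17), (22, 19), (22, 20), (22, 21), (23, 13), (23, 14), (23, 17), (23, 18), (23, 20), (23, 21), (24, 17), (24, 18), (24, 19), (25, 13), (25, 14), (25, 16), (26, 8), (26, 19), (26, 20), (26, 21), (27, 13), (27, 15), (28, 17), (29, 14), (29, 15), (29, 26), (30, 17),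 (30, 18), (30, 20), (30, 21), (30, 25), (30, 29), (31, 19), (31, 20), (31, 27), (31, 29), (32, 25), (33, 11), (33, 22), (33, 23), (34, 19), (34, 20), (34, 29), (36, 22), (36, 24), (37, 23), (37, 24), (38, 21), (43, 22), (43, 24), (43, 39), (49, 23), (49, 24), (51, 43), (51, 48)], some 1, []),
    (447, 524, [(6, 2), (6, 5), (8, 4), (8, 7), (9, 3), (11, 7), (12, 10), (13, 11)], none, [4025, 3231, 1555]),
    (447, 527, [(6, 2), (6, 3), (6, 4), (6, 5), (7, 0), (7, 1), (7, 4), (7, 5), (8, 1), (8, 3), (8, 4), (8, 5), (8, 7), (9, 3), (9, 4), (9, 5), (10, 8), (11, 7), (11, 8), (12, 7), (12, 8), (13, 1), (13, 4), (13, 5), (13, 8), (13, 11), (13, 12), (14, 8), (15, 8), (15, 9), (15, 10), (17, 3), (17, 4), (17, 5), (17, 7), (17, 10), (17, 11), (17, 12), (17, 13), (17, 14), (17, 16), (18, 7), (18, 9), (18, 11), (18, 12), (18, 13), (18, 14), (18, 15), (19, 7), (19, 9), (19, 10), (19, 12), (19, 13), (19, 15), (19, 16), (20, 9), (20, 10), (20, 11), (20, 14), (20, 15), (21,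 10), (21, 11), (22, 17), (22, 19), (22, 20), (22, 21), (23, 13), (23, 14), (23, 17), (23, 18), (23, 20), (23, 21), (24, 17), (24, 18), (24, 19), (25, 13), (25, 14), (25, 16), (26, 8), (26, 19), (26, 20), (26, 21), (27, 13), (27, 15), (28, 17), (29, 14), (29, 15), (29, 26), (30, 17), (30, 18), (30, 20), (30, 21), (30, 25), (30, 29), (31, 19), (31, 20), (31, 27), (31, 29), (32, 25), (33, 11), (33, 22), (33, 23), (34, 19), (34, 20), (34, 29), (36, 22), (36, 24), (37, 23), (37, 24), (38, 21), (43, 22), (43, 24), (43, 39), (49, 23), (49, 24), (51, 43), (51, 48)], some 2, []),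
    (447, 564, [(6, 2), (6, 3), (6, 4), (6, 5), (7, 0), (7, 1), (7, 4), (7, 5), (8, 1), (8, 3), (8, 4), (8, 5), (8, 6), (9, 3), (9, 4), (9, 5), (9, 8), (10, 8), (11, 7), (11, 8), (12, 7), (13, 1), (13, 4), (13, 5), (13, 11), (13, 12), (14, 8), (15, 8), (15, 9), (15, 10), (16, 8), (17, 3), (17, 4), (17, 5), (17, 6), (17, 9), (17, 10), (17, 11), (17, 13), (17, 15), (17, 16), (18, 6), (18, 9), (18, 10), (18, 12), (18, 14), (18, 15), (18, 16), (19, 6), (19, 9), (19, 11), (19, 12), (19, 13), (19, 14), (19, 16), (20, 10), (20, 11), (20, 13), (20, 14), (20, 15), (21, 14), (21, 15), (22, 17), (22, 18), (22, 20), (22, 21), (23, 13), (23, 14), (23, 19), (23, 20), (25, 14), (25, 15), (26, 14), (26, 16), (27, 8), (27, 19), (27, 20), (27, 21), (28, 13), (28, 15), (28, 16), (29, 18), (30, 18), (30, 19), (30, 20), (30, 21), (30, 25), (30, 26), (31, 17), (31, 18), (31, 20), (31, 21), (31, 25), (31, 28), (32, 17), (32, 18), (32, 19), (32, 26), (32, 28), (33, 19), (33, 20),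 (33, 21), (34, 18), (35, 22), (36, 9), (36, 23), (36, 33), (37, 26), (39, 22), (39, 27), (43, 34), (43, 38), (44, 39), (45, 36), (48, 29), (52, 47), (53, 32)], some 2, []),
    (447, 567, [(6, 3), (7, 1), (8, 1), (8, 3), (8, 6), (11, 9), (12, 7), (13, 10)], none, [1048, 561, 1577]),
    (447, 572, [(6, 2), (6, 3), (6, 4), (6, 5), (7, 0), (7, 1), (7, 4), (7, 5), (8, 1), (8, 3), (8, 4), (8, 5), (8, 6), (8, 7), (9, 3), (9, 4), (9, 5), (9, 8), (10, 8), (11, 7), (12, 7), (12, 8), (13, 1), (13, 4), (13, 5), (13, 8), (13, 11), (13, 12), (15, 8), (15, 9), (15, 10), (16, 8), (17, 3), (17, 4), (17, 5), (17, 6), (17, 9), (17, 10), (17, 12), (17, 15), (17, 16), (18, 6), (18, 7), (18, 9), (18, 10), (18, 11), (18, 13), (18, 15), (18, 16), (19, 7), (19, 10), (19, 12), (19, 13), (19, 14), (19, 15), (20, 6), (20, 7), (20, 9), (20, 11), (20, 12), (20, 13), (20, 14), (20, 16), (21, 7), (21, 13), (21, 15), (22, 9), (22, 10), (22, 11), (23, 17), (23, 18), (23, 19), (23, 21), (23,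 22), (24, 13), (24, 14), (24, 22), (25, 19), (25, 20), (26, 13), (26, 15), (27, 13), (27, 16), (28, 19), (28, 20), (28, 21), (29, 17), (30, 15), (30, 16), (32, 17), (32, 18), (32, 19), (32, 21), (32, 22), (32, 26), (32, 30), (33, 17), (33, 20), (33, 27), (33, 30), (34, 23), (34, 24), (35, 19), (35, 20), (35, 21), (37, 9), (37, 25), (37, 35), (38, 27), (40, 23), (40, 28), (44, 36), (45, 40), (46, 37), (48, 29), (51, 21), (54, 33)], some 1, []),
    (447, 575, [(6, 3), (7, 1), (8, 1), (8, 3), (8, 6), (11, 9), (12, 10), (13, 7)], none, [555, 522, 169]),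
    (447, 775, [(6, 3), (6, 4), (7, 4), (7, 5), (8, 1), (9, 8), (13, 10), (13, 12), (14, 11)], none, [1339, 4023, 1565]),
    (447, 779, [(6, 2), (6, 5), (8, 4), (8, 7), (9, 3), (11, 7), (12, 10), (13, 11)], none, [561, 2237, 279]),
    (447, 823, [(6, 2), (7, 4), (7, 5), (8, 1), (8, 6), (9, 4), (12, 10), (13, 11), (14, 12)], none, [3467, 2618, 2339]),
    (447, 827, [(7, 4), (8, 4), (8, 6), (10, 6), (10, 7), (11, 9)], none, [2588, 3585, 2357]),
    (447, 3339, [(6, 3), (7, 1), (8, 1), (8, 3), (8, 6), (11, 9), (12, 7), (13, 10)], none, [2595, 397, 2573]),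
    (447, 3343, [(6, 2), (6, 3), (6, 4), (6, 5), (7, 0), (7, 1), (7, 4), (7, 5), (8, 1), (8, 3), (8, 4), (8, 5), (8, 6), (8, 7), (9, 3), (9, 4), (9, 5), (9, 8), (11, 7), (11, 8), (12, 7), (12, 8), (13, 1), (13, 4), (13, 5), (13, 8), (13, 11), (13, 12), (14, 8), (15, 9), (15, 10), (16, 8), (17, 3), (17, 4), (17, 5), (17, 6), (17, 7), (17, 9), (17, 11), (17, 12), (17, 13), (17, 14), (17, 15), (18, 7), (18, 11), (18, 12), (18, 13), (18, 14), (18, 16), (19, 6), (19, 9), (19, 10), (19, 11), (19, 14), (19, 16), (20, 6), (20, 7), (20, 9), (20, 10), (20, 12), (20, 13), (20, 15), (20, 16), (21, 7), (21, 13), (21, 14), (21, 15), (22, 9), (22, 11), (24, 13), (24, 14), (24, 17), (24, 18), (24, 19), (24, 21), (24, 22), (25, 18), (25, 20), (26, 13), (26, 14), (26, 15), (27, 19), (27, 20), (27, 22), (28, 13), (28, 16), (29, 17), (30, 14), (30, 16), (30, 27), (31, 17), (31, 18), (31, 19), (31, 21), (31, 22), (31, 26), (31, 30), (32, 26), (33, 19), (33, 20), (33, 28), (33,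 30), (34, 11), (34, 24), (35, 19), (35, 20), (35, 30), (37, 25), (38, 22), (40, 24), (40, 25), (44, 7), (44, 22), (44, 34), (44, 37), (51, 24), (51, 25)], some 1, []),
    (447, 3387, [(6, 2), (6, 3), (6, 4), (6, 5), (7, 0), (7, 1), (7, 4), (7, 5), (8, 1), (8, 3), (8, 4), (8, 5), (8, 6), (8, 7), (9, 3), (9, 4), (9, 5), (9, 8), (11, 7), (11, 8), (12, 7), (12, 8), (13, 1), (13, 4), (13, 5), (13, 8), (13, 11), (13, 12), (14, 8), (15, 9), (15, 10), (16, 8), (17, 3), (17, 4), (17, 5), (17, 6), (17, 7), (17, 9), (17, 11), (17, 12), (17, 13), (17, 14), (17, 15), (18, 7), (18, 11), (18, 12), (18, 13), (18, 14), (18, 16), (19, 6), (19, 9), (19, 10), (19, 11), (19, 14), (19, 16), (20, 6), (20, 7), (20, 9), (20, 10), (20, 12), (20, 13), (20, 15), (20, 16), (21, 7), (21, 13), (21, 14), (21, 15), (22, 9), (22, 11), (24, 13), (24, 14), (24, 17), (24, 18), (24, 19), (24, 21), (24, 22), (25, 18), (25, 20), (26, 13), (26, 14), (26, 15), (27, 19), (27, 20), (27, 22), (28, 13),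 (28, 16), (29, 17), (30, 14), (30, 16), (30, 27), (31, 17), (31, 18), (31, 19), (31, 21), (31, 22), (31, 26), (31, 30), (32, 26), (33, 19), (33, 20), (33, 28), (33, 30), (34, 11), (34, 24), (35, 19), (35, 20), (35, 30), (37, 25), (38, 22), (40, 24), (40, 25), (44, 7), (44, 22), (44, 34), (44, 37), (51, 24), (51, 25)], some 2, []),
    (447, 3391, [(6, 3), (7, 1), (8, 1), (8, 3), (8, 6), (11, 9), (12, 10), (13, 7)], none, [1051, 4021, 3995]),
    (447, 3588, [(6, 2), (6, 3), (6, 4), (6, 5), (7, 0), (7, 1), (7, 4), (7, 5), (8, 1), (8, 3), (8, 4), (8, 5), (8, 6), (9, 3), (9, 4), (9, 5), (9, 8), (10, 8), (11, 7), (12, 7), (12, 8), (13, 1), (13, 4), (13, 5), (13, 11), (13, 12), (14, 8), (15, 8), (15, 9), (15, 10), (16, 8), (17, 3), (17, 4), (17, 5), (17, 6), (17, 9), (17, 10), (17, 12), (17, 13), (17, 15), (17, 16), (18, 6), (18, 9), (18, 10), (18, 11), (18, 14), (18, 15), (18, 16), (19, 10), (19, 12), (19, 13), (19, 14), (19, 16), (20, 6), (20, 9), (20, 11), (20,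 12), (20, 13), (20, 14), (20, 15), (21, 14), (21, 16), (22, 17), (22, 18), (22, 19), (22, 21), (23, 13), (23, 14), (24, 19), (24, 20), (25, 14), (25, 16), (26, 14), (26, 15), (27, 17), (27, 18), (28, 8), (28, 19), (28, 20), (28, 21), (29, 15), (29, 16), (30, 18), (30, 19), (30, 20), (30, 21), (30, 25), (30, 26), (31, 17), (31, 18), (31, 20), (31, 26), (31, 29), (32, 17), (32, 18), (32, 19), (32, 21), (32, 25), (32, 29), (33, 18), (34, 19), (34, 20), (34, 21), (35, 22), (36, 10), (36, 22), (36, 24), (36, 28), (36, 34), (38, 25), (43, 33), (43, 37), (44, 36), (45, 39), (49, 27), (52, 47), (53, 31)], some 1, []),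
    (447, 3591, [(6, 3), (7, 1), (8, 1), (8, 3), (8, 6), (11, 9), (12, 10), (13, 7)], none, [2339, 653, 2317]),
    (447, 3596, [(7, 4), (8, 4), (8, 6), (10, 6), (10, 7), (11, 9)], none, [1851, 953, 1963]),
    (447, 3599, [(6, 2), (6, 3), (6, 4), (6, 5), (7, 0), (7, 1), (7, 4), (7, 5), (8, 1), (8, 3), (8, 4), (8, 5), (8, 6), (8, 7), (9, 3), (9, 4), (9, 5), (9, 8), (11, 7), (11, 8), (12, 7), (12, 8), (13, 1), (13, 4), (13, 5), (13, 8), (13, 11), (13, 12), (14, 8), (15, 8), (15, 9), (15, 10), (17, 3), (17, 4), (17, 5), (17, 6), (17, 7), (17, 9), (17, 11), (17, 12), (17, 13), (17, 14), (17, 16), (18, 7), (18, 11), (18, 12), (18, 13), (18, 14), (18, 15), (19, 6), (19, 7), (19, 9), (19, 10), (19, 11), (19, 13), (19, 15), (19, 16), (20, 6), (20, 9), (20, 10), (20, 12), (20, 14), (20, 15), (21, 7), (21, 13), (21, 14), (21, 16), (22, 9), (22, 12), (24, 13), (24, 14), (24, 17), (24, 18), (24, 19), (24, 21), (25, 18), (25, 20), (25, 22), (26, 13), (26, 14), (26, 16),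 (27, 17), (28, 14), (28, 15), (29, 19), (29, 20), (29, 22), (29, 28), (30, 13), (30, 15), (31, 17), (31, 18), (31, 20), (31, 21), (31, 22), (31, 26), (31, 28), (32, 19), (32, 20), (32, 28), (32, 30), (33, 26), (34, 12), (34, 25), (36, 19), (36, 20), (36, 28), (37, 24), (38, 24), (38, 25), (40, 22), (44, 7), (44, 22), (44, 34), (44, 37), (51, 24), (51, 25)], some 1, []),
    (447, 3636, [(6, 2), (7, 4), (7, 5), (8, 1), (8, 6), (9, 4), (12, 10), (13, 11), (14, 12)], none, [306, 3741, 555]),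
    (447, 3639, [(6, 2), (6, 3), (6, 4), (6, 5), (7, 0), (7, 1), (7, 4), (7, 5), (8, 1), (8, 3), (8, 4), (8, 5), (8, 6), (8, 7), (9, 3), (9, 4), (9, 5), (9, 8), (11, 7), (11, 8), (12, 7), (12, 8), (13, 1), (13, 4), (13, 5), (13, 8), (13, 11), (13, 12), (14, 8), (15, 8), (15, 9), (15, 10), (17, 3), (17, 4), (17, 5), (17, 6), (17, 7), (17, 9), (17, 11), (17, 12), (17, 13), (17, 14), (17, 16), (18, 7), (18, 11), (18, 12), (18, 13), (18, 14), (18, 15), (19, 6), (19, 7), (19, 9), (19, 10), (19, 11), (19, 13), (19, 15), (19, 16), (20, 6), (20, 9), (20, 10), (20, 12), (20, 14), (20, 15), (21, 7), (21, 13), (21, 14), (21, 16), (22, 9), (22, 12), (24, 13), (24, 14), (24, 17), (24, 18), (24, 19), (24, 21), (25, 18), (25, 20), (25, 22), (26, 13), (26, 14), (26, 16), (27, 17), (28, 14), (28, 15), (29, 19), (29, 20), (29, 22), (29, 28), (30, 13), (30, 15), (31, 17), (31, 18), (31, 20), (31, 21), (31, 22), (31, 26), (31, 28), (32, 19), (32, 20), (32, 28), (32, 30), (33,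 26), (34, 12), (34, 25), (36, 19), (36, 20), (36, 28), (37, 24), (38, 24), (38, 25), (40, 22), (44, 7), (44, 22), (44, 34), (44, 37), (51, 24), (51, 25)], some 2, []),
    (447, 3644, [(6, 2), (6, 3), (6, 4), (6, 5), (7, 0), (7, 1), (7, 4), (7, 5), (8, 1), (8, 3), (8, 4), (8, 5), (8, 6), (8, 7), (9, 3), (9, 4), (9, 5), (9, 8), (10, 8), (11, 7), (11, 8), (12, 7), (13, 1), (13, 4), (13, 5), (13, 8), (13, 11), (13, 12), (15, 8), (15, 9), (15, 10), (16, 8), (17, 3), (17, 4), (17, 5), (17, 6), (17, 9), (17, 10), (17, 11), (17, 15), (17, 16), (18, 6), (18, 7), (18, 9), (18, 10), (18, 12), (18, 13), (18, 15), (18, 16), (19, 6), (19, 7), (19, 9), (19, 11), (19, 12), (19, 13), (19, 14), (19, 15), (20, 7), (20, 10), (20, 11), (20, 13), (20, 14), (20, 16), (21, 7), (21, 13), (21, 16), (22, 9), (22, 10), (22, 12), (23, 17), (23, 18), (23, 20), (23, 21), (23, 22), (24, 13), (24, 14), (24, 19), (24, 20), (25, 22), (26, 13), (26, 16), (27, 13), (27, 15), (28, 17), (29, 15),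 (29, 16), (30, 19), (30, 20), (30, 21), (32, 17), (32, 18), (32, 19), (32, 22), (32, 27), (32, 29), (33, 17), (33, 20), (33, 21), (33, 26), (33, 29), (34, 23), (34, 25), (36, 19), (36, 20), (36, 21), (37, 10), (37, 23), (37, 24), (37, 30), (37, 36), (39, 26), (44, 35), (45, 37), (46, 40), (49, 28), (51, 21), (54, 32)], some 2, []),
    (447, 3647, [(6, 3), (7, 1), (8, 1), (8, 3), (8, 6), (11, 9), (12, 7), (13, 10)], none, [1047, 4025, 3991]),
    (447, 3847, [(6, 2), (6, 3), (6, 4), (6, 5), (7, 0), (7, 1), (7, 4), (7, 5), (8, 1), (8, 3), (8, 4), (8, 5), (8, 6), (9, 3), (9, 4), (9, 5), (9, 8), (10, 8), (11, 7), (11, 8), (12, 7), (13, 1), (13, 4), (13, 5), (13, 11), (13, 12), (14, 8), (15, 8), (15, 9), (15, 10), (16, 8), (17, 3), (17, 4), (17, 5), (17, 6), (17, 9), (17, 10), (17, 11), (17, 13), (17, 15), (17, 16), (18, 6), (18, 9), (18, 10), (18, 12), (18, 14), (18, 15), (18, 16), (19, 6), (19, 9), (19, 11), (19, 12), (19, 13), (19, 14), (19, 16), (20, 10), (20,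 11), (20, 13), (20, 14), (20, 15), (21, 14), (21, 15), (22, 17), (22, 18), (22, 20), (22, 21), (23, 13), (23, 14), (23, 19), (23, 20), (25, 14), (25, 15), (26, 14), (26, 16), (27, 8), (27, 19), (27, 20), (27, 21), (28, 13), (28, 15), (28, 16), (29, 18), (30, 18), (30, 19), (30, 20), (30, 21), (30, 25), (30, 26), (31, 17), (31, 18), (31, 20), (31, 21), (31, 25), (31, 28), (32, 17), (32, 18), (32, 19), (32, 26), (32, 28), (33, 19), (33, 20), (33, 21), (34, 18), (35, 22), (36, 9), (36, 23), (36, 33), (37, 26), (39, 22), (39, 27), (43, 34), (43, 38), (44, 39), (45, 36), (48, 29), (52, 47), (53, 32)], some 1, []),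
    (447, 3851, [(6, 2), (6, 3), (6, 4), (6, 5), (7, 0), (7, 1), (7, 4), (7, 5), (8, 1), (8, 3), (8, 4), (8, 5), (8, 6), (8, 7), (9, 3), (9, 4), (9, 5), (9, 8), (10, 8), (11, 7), (11, 8), (12, 7), (13, 1), (13, 4), (13, 5), (13, 8), (13, 11), (13, 12), (15, 8), (15, 9), (15, 10), (16, 8), (17, 3), (17, 4), (17, 5), (17, 6), (17, 9), (17, 10), (17, 11), (17, 15), (17, 16), (18, 6), (18, 7), (18, 9), (18, 10), (18, 12), (18, 13), (18, 15), (18, 16), (19, 6), (19, 7), (19, 9), (19, 11), (19, 12), (19, 13), (19, 14), (19, 15), (20, 7), (20, 10), (20, 11), (20, 13), (20, 14), (20, 16), (21, 7), (21, 13), (21, 16), (22, 9), (22, 10), (22, 12), (23, 17), (23, 18), (23, 20), (23, 21), (23, 22), (24, 13), (24, 14), (24, 19), (24, 20), (25, 22), (26, 13), (26, 16), (27, 13), (27, 15), (28, 17), (29, 15), (29, 16), (30, 19), (30, 20), (30, 21), (32, 17), (32, 18), (32, 19), (32, 22), (32, 27), (32, 29), (33, 17), (33, 20), (33, 21), (33, 26), (33, 29), (34, 23), (34,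 25), (36, 19), (36, 20), (36, 21), (37, 10), (37, 23), (37, 24), (37, 30), (37, 36), (39, 26), (44, 35), (45, 37), (46, 40), (49, 28), (51, 21), (54, 32)], some 1, []),
    (447, 3895, [(6, 2), (6, 3), (6, 4), (6, 5), (7, 0), (7, 1), (7, 4), (7, 5), (8, 1), (8, 3), (8, 4), (8, 5), (8, 6), (9, 3), (9, 4), (9, 5), (9, 8), (10, 8), (11, 7), (12, 7), (12, 8), (13, 1), (13, 4), (13, 5), (13, 11), (13, 12), (14, 8), (15, 8), (15, 9), (15, 10), (16, 8), (17, 3), (17, 4), (17, 5), (17, 6), (17, 9), (17, 10), (17, 12), (17, 13), (17, 15), (17, 16), (18, 6), (18, 9), (18, 10), (18, 11), (18, 14), (18, 15), (18, 16), (19, 10), (19, 12), (19, 13), (19, 14), (19, 16), (20, 6), (20, 9), (20, 11), (20, 12), (20, 13), (20, 14), (20, 15), (21, 14), (21, 16), (22, 17), (22, 18), (22, 19), (22, 21), (23, 13), (23, 14), (24, 19), (24, 20), (25, 14), (25, 16), (26, 14), (26, 15), (27, 17), (27, 18), (28, 8), (28, 19), (28, 20), (28, 21), (29, 15), (29, 16), (30, 18), (30, 19),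 (30, 20), (30, 21), (30, 25), (30, 26), (31, 17), (31, 18), (31, 20), (31, 26), (31, 29), (32, 17), (32, 18), (32, 19), (32, 21), (32, 25), (32, 29), (33, 18), (34, 19), (34, 20), (34, 21), (35, 22), (36, 10), (36, 22), (36, 24), (36, 28), (36, 34), (38, 25), (43, 33), (43, 37), (44, 36), (45, 39), (49, 27), (52, 47), (53, 31)], some 2, []),
    (447, 3899, [(6, 2), (6, 3), (6, 4), (6, 5), (7, 0), (7, 1), (7, 4), (7, 5), (8, 1), (8, 3), (8, 4), (8, 5), (8, 6), (8, 7), (9, 3), (9, 4), (9, 5), (9, 8), (10, 8), (11, 7), (12, 7), (12, 8), (13, 1), (13, 4), (13, 5), (13, 8), (13, 11), (13, 12), (15, 8), (15, 9), (15, 10), (16, 8), (17, 3), (17, 4), (17, 5), (17, 6), (17, 9), (17, 10), (17, 12), (17, 15), (17, 16), (18, 6), (18, 7), (18, 9), (18, 10), (18, 11), (18, 13), (18, 15), (18, 16), (19, 7), (19, 10), (19, 12), (19, 13), (19, 14), (19, 15), (20, 6), (20, 7), (20, 9), (20, 11), (20, 12), (20, 13), (20, 14), (20, 16), (21, 7), (21, 13), (21, 15), (22, 9), (22,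 10), (22, 11), (23, 17), (23, 18), (23, 19), (23, 21), (23, 22), (24, 13), (24, 14), (24, 22), (25, 19), (25, 20), (26, 13), (26, 15), (27, 13), (27, 16), (28, 19), (28, 20), (28, 21), (29, 17), (30, 15), (30, 16), (32, 17), (32, 18), (32, 19), (32, 21), (32, 22), (32, 26), (32, 30), (33, 17), (33, 20), (33, 27), (33, 30), (34, 23), (34, 24), (35, 19), (35, 20), (35, 21), (37, 9), (37, 25), (37, 35), (38, 27), (40, 23), (40, 28), (44, 36), (45, 40), (46, 37), (48, 29), (51, 21), (54, 33)], some 2, [])]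

/-- Level 0 of the chain. -/
def lev0 : Nat × List (Nat × List Nat) :=
  (3, [(3, []), (12, [257, 514]), (17, [18]), (18, [17]), (33, [34]), (34, [33]), (48, [17, 34]), (63, [143, 3983]), (143, [897]), (177, [3251]), (257, [258]), (258, [257]), (279, [33, 309]), (295, [17, 309]), (309, [310]), (310, [309]), (315, [177, 3725]), (319, [143, 3125]), (401, [1175]), (417, [2215]), (441, [3775]), (443, [3973]), (513, [514]), (514, [513]), (539, [33, 569]), (555, [17, 569]), (567, [177, 3469]), (569, [570]), (570, [569]), (575, [143, 3129]), (657, [1179]), (673, [2219]), (693, [3519]), (695, [3977]), (775, [17, 789]), (779, [17, 793]), (789, [790]), (790, [789]), (793, [794]), (794, [793]), (805, [806]), (806, [805]), (809, [810]), (810, [809]), (897, [143]), (947, [3981]), (951, [3725]), (955, [3469]), (1044, [17, 258]), (1048, [17, 514]), (1053, [1054]), (1054, [1053]), (1059, [17, 177]), (1084, [17, 2818]), (1175, [401]), (1179, [657]), (1283, [17, 401]), (1313,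 [1314]), (1314, [1313]), (1323, [17, 441]), (1339, [17, 443]), (1539, [17, 657]), (1569, [1570]), (1570, [1569]), (1575, [17, 693]), (1591, [17, 695]), (1793, [1794]), (1794, [1793]), (1843, [17, 947]), (1847, [17, 951]), (1851, [17, 955]), (1955, [3997]), (1965, [2995]), (1969, [3247]), (1971, [2973]), (2067, [33, 177]), (2084, [33, 258]), (2088, [33, 514]), (2093, [2094]), (2094, [2093]), (2108, [17, 2094]), (2215, [417]), (2219, [673]), (2307, [17, 2321]), (2321, [2322]), (2322, [2321]), (2331, [33, 441]), (2363, [33, 443]), (2563, [17, 2577]), (2577, [2578]), (2578, [2577]), (2583, [33, 693]), (2615, [33, 695]), (2817, [2818]), (2818, [2817]), (2867, [33, 947]), (2871, [33, 951]), (2875, [33, 955]), (2963, [4013]), (2973, [1971]), (2993, [3231]), (2995, [1965]), (3125, [3126]), (3126, [3125]), (3129, [3130]), (3130, [3129]), (3231, [2993]), (3247, [1969]), (3251, [177]), (3261, [3983]), (3469, [955]), (3519, [693]), (3596, [17, 806]), (3636, [17, 810]),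 (3725, [951]), (3775, [441]), (3855, [17, 2973]), (3859, [17, 2963]), (3875, [17, 2993]), (3891, [17, 2995]), (3973, [443]), (3977, [695]), (3981, [947]), (3983, [3261]), (3997, [1955]), (4013, [2963])])

/-- Level 1 of the chain. -/
def lev1 : Nat × List (Nat × List Nat) :=
  (17, [(17, []), (18, [3]), (33, [48]), (34, [3, 48]), (143, [775, 1539]), (177, [3, 1059]), (257, [1044]), (258, [3, 1044]), (309, [3, 295]), (310, [295]), (401, [3, 1283]), (417, [555, 3859]), (441, [3, 1323]), (443, [3, 1339]), (513, [1048]), (514, [3, 1048]), (569, [3, 555]), (570, [555]), (657, [3, 1539]), (673, [295, 3859]), (693, [3, 1575]), (695, [3, 1591]), (789, [3, 775]), (790, [775]), (793, [3, 779]), (794, [779]), (805, [3596]), (806, [3, 3596]), (809, [3636]), (810, [3, 3636]), (897, [1059, 3855]), (947, [3, 1843]), (951, [3, 1847]), (955, [3, 1851]), (1053, [48, 1084]), (1054, [1059, 3875]), (1175, [1283]), (1179, [1539]), (1313, [775, 1591]), (1314, [48, 1283]), (1569,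 [779, 1339]), (1570, [48, 1539]), (1793, [48, 2108]), (1794, [775, 1044]), (1955, [1059, 1084]), (1965, [3891]), (1969, [295, 2563]), (1971, [3855]), (2093, [2108]), (2094, [3, 2108]), (2215, [48, 2307]), (2219, [48, 2563]), (2321, [3, 2307]), (2322, [2307]), (2577, [3, 2563]), (2578, [2563]), (2817, [1084]), (2818, [3, 1084]), (2963, [3, 3859]), (2973, [3, 3855]), (2993, [3, 3875]), (2995, [3, 3891]), (3125, [775, 3875]), (3126, [555, 3596]), (3129, [779, 3875]), (3130, [295, 3636]), (3231, [3875]), (3247, [48, 3859]), (3251, [1059]), (3261, [1059, 3891]), (3469, [1851]), (3519, [1575]), (3725, [1847]), (3775, [1323]), (3973, [1339]), (3977, [1591]), (3981, [1843]), (3983, [295, 779]), (3997, [48, 3875]), (4013, [3859])])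

/-- Level 2 of the chain. -/
def lev2 : Nat × List (Nat × List Nat) :=
  (48, [(48, []), (295, [279]), (555, [539]), (775, [279, 2088]), (779, [539, 2084]), (1044, [2084]), (1048, [2088]), (1059, [2067]), (1084, [279, 2615]), (1283, [279, 2067]), (1323, [2331]), (1339, [2363]), (1539, [539, 2067]), (1575, [2583]), (1591, [2615]), (1843, [2867]), (1847, [2871]), (1851, [2875]), (2108, [279, 2331]), (2307, [279, 2084]), (2563, [539, 2088]), (3596, [2067, 2331]), (3636, [2067, 2583]), (3855, [279, 2871]), (3859, [2084, 2583]), (3875, [2084, 2871]), (3891, [2084, 2615])])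

/-- Level 3 of the chain. -/
def lev3 : Nat × List (Nat × List Nat) :=
  (12, [(12, []), (63, [315, 575]), (315, [567]), (319, [575]), (567, [315]), (575, [319])])

/-- Level 4 of the chain. -/
def lev4 : Nat × List (Nat × List Nat) :=
  (315, [(315, []), (319, [63]), (567, [12]), (575, [12, 63])])

/-- Outer points with their certificates. -/
def rigs : List (Nat × List Ev × List Ev × List Nat) :=
  [(27, [], [.conj 2 1, .conj 3 2, .conj 4 0, .conj 4 3, .conj 5 3, .conj 6 4, .conj 7 3, .conj 7 6, .conj 9 7, .only 3 [3, 10, 0, 2], .conj 14 1, .conj 14 9, .only 5 [2, 15, 8, 7, 9], .conj 17 0, .conj 17 1, .conj 17 12, .conj 17 16, .conj 18 1, .conj 18 3, .conj 18 6, .conj 18 14, .conj 18 16, .conj 19 11, .conj 22 21, .conj 27 26, .only 141 [2, 4, 16, 13], .conj 30 0, .conj 30 3, .conj 30 9, .conj 30 10, .conj 31 14, .conj 32 23, .conj 33 20, .conj 34 24, .conj 34 29, .conj 35 28], [63]),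
    (40, [], [.conj 2 1, .conj 3 2, .conj 4 0, .conj 4 3, .conj 5 3, .conj 6 4, .conj 7 3, .conj 9 7, .only 3 [3, 10, 0, 2], .conj 13 5, .conj 13 12, .only 15 [2, 11, 4, 9, 13], .conj 16 0, .conj 16 1, .conj 16 5, .conj 16 6, .conj 17 1, .conj 17 14, .conj 18 7, .conj 19 15, .conj 20 15, .conj 21 3, .conj 23 22, .only 141 [2, 4, 9, 15], .conj 28 0, .conj 28 3, .conj 28 6, .conj 28 8, .conj 29 13, .conj 30 25, .conj 30 27, .conj 31 22, .conj 32 24, .conj 33 24], [63]),
    (275, [.conj 1 0, .conj 2 1, .conj 3 2, .conj 4 3, .conj 5 2, .conj 6 3, .conj 8 6, .conj 9 8, .only 63 [0, 2, 1, 4], .conj 13 3, .conj 13 7, .conj 13 10, .conj 15 11, .conj 15 12, .only 5 [2, 5, 11, 13, 0], .conj 19 0, .conj 19 1, .conj 19 3, .conj 19 12, .conj 20 15, .conj 20 17, .conj 21 14, .conj 21 15, .conj 21 16, .conj 22 8, .conj 23 18, .conj 26 17, .conj 27 25, .conj 29 28], [.conj 2 1, .conj 3 2, .conj 4 0, .conj 4 3, .conj 5 3, .conj 6 4, .conj 7 6, .conj 8 5, .conj 9 7, .only 3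 [3, 10, 0, 2], .conj 14 1, .conj 14 12, .conj 14 13, .only 5 [2, 15, 12, 7, 0], .conj 18 0, .conj 18 1, .conj 18 3, .conj 18 6, .conj 18 11, .conj 18 16, .conj 19 5, .conj 19 9, .conj 20 3, .conj 21 5, .conj 21 9, .conj 22 17, .conj 23 16, .conj 25 24, .conj 27 26, .conj 29 23, .conj 31 28], []),
    (2335, [.conj 1 0, .conj 2 1, .conj 3 2, .conj 4 3, .conj 5 2, .conj 6 3, .conj 7 5, .conj 8 6, .conj 9 8, .only 63 [0, 2, 1, 4], .conj 14 3, .conj 14 7, .conj 14 13, .conj 15 12, .conj 16 12, .conj 16 13, .only 23 [0, 1, 8, 14, 2], .conj 21 2, .conj 21 3, .conj 21 10, .conj 21 18, .conj 21 19, .conj 22 3, .conj 22 10, .conj 22 11, .conj 22 12, .conj 23 19, .conj 24 20, .conj 27 26, .conj 28 17, .conj 30 25, .conj 31 29], [.conj 2 1, .conj 3 2, .conj 4 0, .conj 4 3, .conj 5 3, .conj 6 4, .conj 7 3, .conj 8 5, .conj 9 7, .only 3 [3, 10, 0, 2], .conj 14 5, .conj 14 9, .conj 14 12, .conj 14 13, .only 23 [1, 14, 8, 7, 0], .conj 19 0, .conj 19 2, .conj 19 3, .conj 19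 10, .conj 19 16, .conj 20 13, .conj 20 15, .conj 20 18, .conj 21 3, .conj 21 13, .conj 22 13, .conj 23 11, .conj 25 16, .conj 28 27, .conj 29 26, .conj 30 17, .conj 31 24], [])]

/-- A derivation from six of the configuration. -/
def sixDer : List (Nat × Nat) :=
  [(1, 0), (2, 1)]

/-- Three derived points on a line. -/
def sixBad : List Nat :=
  [3, 2052, 295]

/-- Seven points of the configuration. -/
def cfg : List Nat :=
  [51, 279, 48, 17, 3, 12, 319]

/-- A certificate for five of them. -/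
def e7Rig : List Ev :=
  [.conj 1 0, .conj 2 1, .conj 3 2, .conj 4 1, .conj 5 2, .conj 5 4, .conj 6 3, .conj 6 4, .conj 7 5, .conj 8 7, .conj 9 4, .conj 9 8, .conj 10 7, .conj 13 12, .only 63 [0, 16, 3], .conj 19 1, .conj 19 9, .conj 19 15, .conj 20 14, .only 23 [3, 12, 10, 19, 0], .conj 24 0, .conj 24 1, .conj 24 4, .conj 24 5, .conj 24 13, .conj 25 2, .conj 25 11, .conj 25 16, .conj 25 21, .conj 25 23, .conj 26 13, .conj 26 22, .conj 27 18, .conj 28 17, .conj 30 29, .conj 35 33, .conj 36 31, .conj 37 34]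

/-- Planes through the base pair: a point and the lines from the first point. -/
def planes3 : List (Nat × List (List Nat)) :=
  [(48, [[3, 48, 51, 3075, 3123], [3, 60, 63, 3843, 3903], [3, 819, 3132, 3135, 3855], [3, 831, 3084, 3087, 3891]]), (1059, [[3, 1059, 2096, 2099, 3091], [3, 1068, 1071, 2879, 3859], [3, 1827, 2108, 2111, 3871], [3, 1839, 2867, 3100, 3103]]), (1075, [[3, 1075, 2064, 2067, 3107], [3, 1084, 1087, 2835, 3887], [3, 1843, 2847, 3116, 3119], [3, 1855, 2076, 2079, 3875]])]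

/-- The set as a mask. -/
def wMask : Nat :=
  0x20002000a220000000000000000000080008000880000000000000000000800000000000200000000000000000000010000000001000000000000000000080000000000020000000000000000000000000000000000000000000000000002008800080000000000000000000000006600000000000000000000000000000000a000020080000000000000000000008880000000000060000000000000000000000000000000000000000000000000080000000860008000000000000000000000000000000000000000000000000080000000806000800000000000000000000088000000000000000000000000010006110000800000000000000000000000a200800000000000000000000000008880000000000060000000000000000000000000000000000000000000000000080008600000008000000000000000000000000000000000000000000000000080008060000000800000000000000000000000008800000000000000000000010000008611000000000000000000000088800000000000200000000000000000000066006600880000000000000000000a00002000200000000000000000000868008000800000600000000000000000a00000200020000000000000000000088600080008000060000000000000000000200000000800000000000000000008001000600061008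

end Cfsg.Agent.Fus.M22U
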