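import Cfsg.Agent.Lib.Block.FischerTypes.U6Code.Checks
import Cfsg.Agent.Lib.Block.FischerTypes.U6Code.Planes
import Cfsg.Agent.Lib.Fus.M22U.Data

/-! Functions on the numbers of the polar space used for the uniqueness in type M(22). -/

set_option autoImplicit false

namespace Cfsg.Agent.Fus.M22U

open Cfsg.Agent.Block.FischerTypes.U6Code

/-- Membership in the set of 126. -/
def inW (c : ℕ) : Bool := Nat.beq ((wMask >>> c) &&& 1) 1

/-- A map of diagonal type. -/
def sig (c : ℕ) : ℕ :=
  nrm (mk ((lo c &&& 60) ||| (hi c &&& 3)) ((hi c &&& 60) ||| ((lo c ^^^ hi c) &&& 3)))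

/-- Members derived by transvections. -/
def derive : List ℕ → List (ℕ × ℕ) → List ℕ
  | L, [] => L
  | L, e :: r => derive (L ++ [refl (L.getD e.1 (L.headD 0)) (L.getD e.2 (L.headD 0))]) r

/-- Membership in a list. -/
def has (L : List ℕ) (x : ℕ) : Bool := L.any (Nat.beq x)

/-- `x` is new and has the prescribed orthogonality to `prev`. -/
def chainNext (prev : List ℕ) (ex : List Bool) (x : ℕ) : Bool :=
  !(has prev x) && (List.zip prev ex).all fun e => adj x e.1 == e.2

/-- The candidates for the next member of a chain. -/
def chainCand (prev : List ℕ) (ex : List Bool) : List ℕ := w0List.filter (chainNext prev ex)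

/-- Words of points, each letter in the set, moving `x` and fixing `prev`. -/
def chkLev (prev : List ℕ) (ex : List Bool) (d : ℕ × List (ℕ × List ℕ)) : Bool :=
  inW d.1 && chainNext prev ex d.1 && (chainCand prev ex).all fun c =>
    d.2.any fun e => Nat.beq e.1 c && e.2.all (fun p => inW p && isPt p) &&
      prev.all (fun b => Nat.beq (act e.2 b) b) && Nat.beq (act e.2 d.1) c

/-- One step of a rigidity certificate. -/
def chkEvs : List ℕ → List Ev → Option (List ℕ)
  | F, [] => some F
  | F, .conj i j :: r => chkEvs (F ++ [refl (F.getD i (F.headD 0)) (F.getD j (F.headD 0))]) r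
  | F, .only x s :: r =>
    cond (isPt x && s.all (fun i => Nat.blt i F.length) && ptList.all fun y => Nat.beq y x || has F y || (inW y != inW x) ||
        s.any fun i => adj y (F.getD i 0) != adj x (F.getD i 0))
      (chkEvs (F ++ [x]) r) none

/-- A rigidity certificate from `F`. -/
def chkRigid (F : List ℕ) (r : List Ev) : Bool :=
  match chkEvs F r with
  | some L => F.all isPt && gens6.all (has L)
  | none => false

/-- The two triples. -/
def arcOk (x y z : ℕ) : Bool :=
  arcs.any (fun a => has a x && has a y && has a z) ||
    ([b0, b1, b2, x, y, z].any fun u => [b0, b1, b2, x, y, z].any fun v => [b0, b1, b2, x, y, z].any fun w =>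
      !(Nat.beq u v) && !(Nat.beq u w) && !(Nat.beq v w) && adj u v && adj u w && adj v w && onLine u v w)

/-- The points of the base plane off the base line. -/
def plane0 : List ℕ := planeList.filter fun x => !(onPair x)

/-- Points off the base plane orthogonal to the members `i` and `j` of the six. -/
def offList (i j : ℕ) : List ℕ :=
  ptList.filter fun x => adj (oList.getD i 0) x && adj (oList.getD j 0) x && !(has planeList x)

/-- A word fixing the six. -/
def fixO (w : List ℕ) : Bool := w.all isPt && oList.all fun o => Nat.beq (act w o) o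

/-- One case of the derivations. -/
def chkCase (e : ℕ × ℕ × List (ℕ × ℕ) × Option ℕ × List ℕ) : Bool :=
  let L := derive (oList ++ [x1, e.1, e.2.1]) e.2.2.1
  match e.2.2.2.1 with
  | some k => Nat.blt k wWords.length && w0List.all fun x => has L (act (wWords.getD k []) x)
  | none => match e.2.2.2.2 with
    | [p, q, z] => has L p && has L q && has L z && !(Nat.beq p q) && !(Nat.beq p z) && !(Nat.beq q z) &&
        adj p q && adj p z && adj q z && onLine p q z
    | _ => false

/-- All cases with one second point. -/
def chkCases (x2 : ℕ) (l : List (ℕ × ℕ × List (ℕ × ℕ) × Option ℕ × List ℕ)) : Bool :=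
  l.all chkCase && (offList 0 2).all fun c => l.any fun e => Nat.beq e.1 x2 && Nat.beq e.2.1 c

/-- The seven points by the numbers of their generators. -/
def cpt (n : ℕ) : ℕ := cfg.getD (n - 2) 0

/-- The edges of the diagram. -/
def edge (i j : ℕ) : Bool :=
  let e := fun a b : ℕ => (Nat.beq (a + 1) b && Nat.ble b 6) || (Nat.beq a 3 && Nat.beq b 7) || (Nat.beq a 7 && Nat.beq b 8)
  e i j || e j i

end Cfsg.Agent.Fus.M22U
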