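import Cfsg.Agent.Lib.Fus.M22U.Rigid
import Cfsg.Agent.Lib.Fus.M22U.BraidCert

/-! A configuration of nine transpositions in type M(22) satisfies the relations of the presentation. -/

set_option autoImplicit false
set_option linter.style.haveILetI false
set_option linter.unusedSectionVars false
set_option maxRecDepth 20000
set_option maxHeartbeats 1000000

namespace Cfsg.Agent.Fus.M22U

open Cfsg Cfsg.Agent.Spor.ThreeTrans Cfsg.Agent.Block.FischerTypes Cfsg.Agent.Block.FischerTypes.U6Code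

theorem cpt_ok : ((List.range 9).all fun i => Nat.blt i 2 || (isPt (cpt i) && (inW (cpt i) == !(Nat.beq i 2)) &&
    (List.range 9).all fun j => Nat.blt j 2 ||
      ((adj (cpt i) (cpt j) == !(edge i j)) && (!(Nat.beq (cpt i) (cpt j)) || Nat.beq i j)))) = true := by
  decide +kernel

theorem cpt_data (i : ℕ) (hi : i < 9) (h2 : 2 ≤ i) : isPt (cpt i) = true ∧ (inW (cpt i) = !(Nat.beq i 2)) ∧
    ∀ j < 9, 2 ≤ j → (adj (cpt i) (cpt j) = !(edge i j)) ∧ (cpt i = cpt j → i = j) := by
  have h := cpt_ok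
  simp only [List.all_eq_true, List.mem_range, Bool.or_eq_true, Bool.and_eq_true, Nat.blt, Nat.ble_eq,
    Bool.not_eq_true', beq_iff_eq] at h
  obtain ⟨⟨h1, h3⟩, h4⟩ := (h i hi).resolve_left (by omega)
  refine ⟨h1, h3, fun j hj hj2 => ?_⟩
  obtain ⟨k1, k2⟩ := (h4 j hj).resolve_left (by omega)
  refine ⟨k1, fun e => ?_⟩
  rcases k2 with k | k
  · rw [e, Nat.beq_refl] at k
    exact absurd k (by decide)
  · exact Nat.eq_of_beq_eq_true k

/-- The point of the conjugated letter. -/
def thCode : ℕ := thWord.foldr (fun s z => refl (cpt s) z) (cpt thMid)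

theorem th_data : inW thCode = false ∧ (∀ s ∈ thWord, s < 9 ∧ 2 ≤ s) ∧ thMid < 9 ∧ 2 ≤ thMid := by decide +kernel

theorem letters_A : [e7A0, e7A1, e7A2, e7A3, e7A4, e7A5, e7A6].map Prod.fst = [0, 1, 2, 3, 4, 5, 7] := by
  decide +kernel

theorem letters_B : [e7B0, e7B1, e7B2, e7B3, e7B4, e7B5, e7B6].map Prod.fst = [1, 2, 3, 4, 5, 6, 7] := by
  decide +kernel

theorem letters_S : [sp0, sp1, sp2, sp3, sp4, sp5, sp6].map Prod.fst = [1, 2, 3, 4, 5, 7, 8] := by decide +kernel

/-- The nine. -/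
def conf {G : Type*} (pt : ℕ → G) (a b : G) (n : ℕ) : G :=
  if n = 0 then a else if n = 1 then b else pt (cpt n)

variable {G : Type*} [Group G] [Finite G] {D : Set G} {a b : G}
variable (C : M22.Ctx D) (ha : a ∈ D) (hb : b ∈ D) (hab : ¬ Commute a b) (M : Model D a) (hM : IsNormal M b)

theorem conf_two {pt : ℕ → G} {n : ℕ} (h : 2 ≤ n) : conf pt a b n = pt (cpt n) := by
  rw [conf, if_neg (by omega), if_neg (by omega)]

include C ha hb hab hM

theorem conf_mem {i : ℕ} (hi : i < 9) : conf M.pt a b i ∈ D := by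
  rcases Nat.lt_or_ge i 2 with h | h
  · interval_cases i
    exacts [ha, hb]
  · rw [conf_two h]
    exact (M.mem _ (cpt_data i hi h).1).1

theorem conf_comm {i j : ℕ} (hi : i < 9) (hj : j < 9) :
    Commute (conf M.pt a b i) (conf M.pt a b j) ↔ edge i j = false := by
  have one : ∀ {n}, n < 9 → 2 ≤ n → (Commute a (M.pt (cpt n)) ∧ edge 0 n = false ∧ edge n 0 = false) ∧
      ((Commute b (M.pt (cpt n)) ↔ edge 1 n = false) ∧ edge n 1 = edge 1 n) := by
    intro n hn h2
    obtain ⟨hp, hW, -⟩ := cpt_data n hn h2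
    have hm := M.mem _ hp
    refine ⟨⟨hm.2.2, ?_⟩, ?_⟩
    · interval_cases n <;> exact ⟨rfl, rfl⟩
    refine ⟨?_, by interval_cases n <;> rfl⟩
    have h : Commute b (M.pt (cpt n)) ↔ inW (cpt n) = true := by
      rw [← hM _ hp]
      refine ⟨fun k => ⟨hm, hm.1, fun e => hab (e ▸ hm.2.2), k⟩, fun k => k.2.2.2⟩
    rw [h, hW]
    interval_cases n <;> decide
  rcases Nat.lt_or_ge i 2 with h | h <;> rcases Nat.lt_or_ge j 2 with h' | h'
  · interval_cases i <;> interval_cases j
    · exact iff_of_true (Commute.refl _) rfl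
    · exact iff_of_false hab (by decide)
    · exact iff_of_false (fun k => hab k.symm) (by decide)
    · exact iff_of_true (Commute.refl _) rfl
  · rw [conf_two h']
    interval_cases i
    · exact iff_of_true (one hj h').1.1 (one hj h').1.2.1
    · exact (one hj h').2.1
  · rw [conf_two h]
    interval_cases j
    · exact iff_of_true (one hi h).1.1.symm (one hi h).1.2.2
    · rw [(one hi h).2.2]
      exact ⟨fun k => (one hi h).2.1.1 k.symm, fun k => ((one hi h).2.1.2 k).symm⟩
  · rw [conf_two h, conf_two h', M.comm _ _ (cpt_data i hi h).1 (cpt_data j hj h').1,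
      ((cpt_data i hi h).2.2 j hj h').1, Bool.not_eq_true']

theorem conf_inj {i j : ℕ} (hi : i < 9) (hj : j < 9) (e : conf M.pt a b i = conf M.pt a b j) : i = j := by
  by_contra hne
  have k : ∀ n < 9, Commute (conf M.pt a b i) (conf M.pt a b n) ↔ Commute (conf M.pt a b j) (conf M.pt a b n) :=
    fun n _ => by rw [e]
  rcases Nat.lt_or_ge i 2 with h | h <;> rcases Nat.lt_or_ge j 2 with h' | h'
  · interval_cases i <;> interval_cases j <;> first
      | exact hne rfl
      | exact hab (by have := e; simp only [conf] at this; simp at this; rw [this])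
  · rw [conf_two h'] at e
    have hm := M.mem _ (cpt_data j hj h').1
    interval_cases i
    · exact hm.2.1 e.symm
    · exact hab (show Commute a (conf M.pt a b 1) from e ▸ hm.2.2)
  · rw [conf_two h] at e
    have hm := M.mem _ (cpt_data i hi h).1
    interval_cases j
    · exact hm.2.1 e
    · exact hab (show Commute a (conf M.pt a b 1) from e ▸ hm.2.2)
  · rw [conf_two h, conf_two h'] at e
    exact hne (((cpt_data i hi h).2.2 j hj h').2 (M.inj _ _ (cpt_data i hi h).1 (cpt_data j hj h').1 e))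

theorem conf_cox : Cox (conf M.pt a b) where
  sq i hi := mul_self C.set.cls.1 (conf_mem C ha hb hab M hM hi)
  comm i hi j hj _ he := ((conf_comm C ha hb hab M hM hi hj).2 he).eq
  braid i hi j hj he := braid C.set.cls.1 (conf_mem C ha hb hab M hM hi) (conf_mem C ha hb hab M hM hj)
    fun k => Bool.false_ne_true (((conf_comm C ha hb hab M hM hi hj).1 k).symm.trans he)

theorem comm_word {w : List ℕ} {s : ℕ} (hw : ∀ x ∈ w, x < 9) (hs : s < 9)
    (h : wev (conf M.pt a b) (commWord w s) = 1) : Commute (wev (conf M.pt a b) w) (conf M.pt a b s) := by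
  have K := conf_cox C ha hb hab M hM
  simp only [commWord, wev_append, wev_reverse K w hw] at h
  have e : wev (conf M.pt a b) [s] = conf M.pt a b s := by simp [wev]
  rw [e] at h
  have h' := eq_inv_of_mul_eq_one_left h
  rw [← eq_inv_of_mul_eq_one_left (K.sq s hs)] at h'
  exact mul_inv_eq_iff_eq_mul.1 h'

theorem comm_e7 {w : List ℕ} {d : ℕ × List ℕ} (h : chkE7 w d = true) :
    Commute (wev (conf M.pt a b) w) (conf M.pt a b d.1) := by
  have h' := h
  simp only [chkE7, chkTriv, commWord, Bool.and_eq_true, List.all_eq_true, List.mem_append] at h'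
  exact comm_word C ha hb hab M hM (fun x hx => Nat.le_of_ble_eq_true (h'.1 x (Or.inl (Or.inl (Or.inl hx)))))
    (Nat.le_of_ble_eq_true (h'.1 _ (Or.inr (by simp)))) (chkTriv_ev (conf_cox C ha hb hab M hM) h)

theorem conj_word : ∀ (w : List ℕ) (m : ℕ), (∀ s ∈ w, s < 9 ∧ 2 ≤ s) → m < 9 → 2 ≤ m →
    isPt (w.foldr (fun s z => refl (cpt s) z) (cpt m)) = true ∧
      wev (conf M.pt a b) (w ++ [m] ++ w.reverse) = M.pt (w.foldr (fun s z => refl (cpt s) z) (cpt m))
  | [], m, _, hm, h2 => ⟨(cpt_data m hm h2).1, by simp [wev, conf_two h2]⟩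
  | s :: w, m, hw, hm, h2 => by
    obtain ⟨hp, e⟩ := conj_word w m (fun x hx => hw x (List.mem_cons_of_mem _ hx)) hm h2
    obtain ⟨hs, hs2⟩ := hw s List.mem_cons_self
    obtain ⟨h1, h3⟩ := M.conj _ _ (cpt_data s hs hs2).1 hp
    refine ⟨h1, ?_⟩
    rw [show (s :: w) ++ [m] ++ (s :: w).reverse = [s] ++ (w ++ [m] ++ w.reverse) ++ [s] by simp,
      wev_append, wev_append, e, List.foldr_cons, ← h3]
    simp [wev, conf_two hs2]

theorem t0_cube : wev (conf M.pt a b) t0 ^ 3 = 1 := by
  obtain ⟨hW, hl, hm, hm2⟩ := th_data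
  obtain ⟨hp, e⟩ := conj_word C ha hb hab M hM thWord thMid hl hm hm2
  have ht : wev (conf M.pt a b) t0 = b * M.pt thCode := by
    rw [t0, show 1 :: (thWord ++ [thMid] ++ thWord.reverse) = [1] ++ (thWord ++ [thMid] ++ thWord.reverse) from rfl,
      wev_append, e]
    simp [wev, conf, thCode]
  rw [ht]
  have hm' : M.pt thCode ∈ perp D a := M.mem _ hp
  rcases C.set.cls.1.2 b hb _ hm'.1 with k | k
  · exfalso
    have hbm : Commute b (M.pt thCode) := by
      have h2 : b * M.pt thCode = (b * M.pt thCode)⁻¹ := eq_inv_of_mul_eq_one_left (by rw [← pow_two]; exact k)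
      rwa [mul_inv_rev, inv_eq C.set.cls.1 hb, inv_eq C.set.cls.1 hm'.1] at h2
    exact Bool.false_ne_true (hW.symm.trans ((hM _ hp).1 ⟨hm', hm'.1, fun e => hab (e ▸ hm'.2.2), hbm⟩))
  · exact k

theorem tgt_one (o : Option (List ℕ × Bool)) (ho : ∀ x ∈ tgt o, x < 9) : wev (conf M.pt a b) (tgt o) = 1 := by
  have K := conf_cox C ha hb hab M hM
  have h3 := t0_cube C ha hb hab M hM
  have ht : ∀ x ∈ t0, x < 9 := by decide +kernel
  match o, ho with
  | none, _ => simp [tgt, wev]
  | some (y, true), ho =>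
    rw [tgt, wev_append, wev_append, wev_rep, h3, mul_one,
      wev_reverse K y fun x hx => ho x (List.mem_append_left _ (List.mem_append_left _ hx)), mul_inv_cancel]
  | some (y, false), ho =>
    rw [tgt, wev_append, wev_append, wev_rep, wev_reverse K t0 ht, inv_pow, h3, inv_one, mul_one,
      wev_reverse K y fun x hx => ho x (List.mem_append_left _ (List.mem_append_left _ hx)), mul_inv_cancel]

theorem comm_sp {d : ℕ × Option (List ℕ × Bool) × List ℕ} (h : chkSp d = true) :
    Commute (wev (conf M.pt a b) wS) (conf M.pt a b d.1) := by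
  have h' := h
  simp only [chkSp, chkTriv, commWord, Bool.and_eq_true, List.all_eq_true, List.mem_append,
    List.mem_reverse] at h'
  have hlt := fun x hx => Nat.le_of_ble_eq_true (h'.1 x hx)
  have h2 := chkTriv_ev (conf_cox C ha hb hab M hM) h
  rw [wev_append, wev_reverse (conf_cox C ha hb hab M hM) _ (fun x hx => hlt x (Or.inr hx)),
    tgt_one C ha hb hab M hM _ (fun x hx => hlt x (Or.inr hx)), inv_one, mul_one] at h2
  exact comm_word C ha hb hab M hM (fun x hx => hlt x (Or.inl (Or.inl (Or.inl (Or.inl hx)))))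
    (hlt _ (Or.inl (Or.inr (by simp)))) h2

theorem relation_A : wev (conf M.pt a b) [0, 1, 2, 3, 4, 5, 7] ^ 9 = 1 := by
  rw [← wev_rep]
  have hall : ∀ s ∈ [0, 1, 2, 3, 4, 5, 7], Commute (wev (conf M.pt a b) wA) (conf M.pt a b s) := by
    rw [← letters_A]
    intro s hs
    obtain ⟨d, hd, rfl⟩ := List.mem_map.1 hs
    simp only [List.mem_cons, List.not_mem_nil, or_false] at hd
    rcases hd with rfl | rfl | rfl | rfl | rfl | rfl | rfl
    exacts [comm_e7 C ha hb hab M hM eA0, comm_e7 C ha hb hab M hM eA1, comm_e7 C ha hb hab M hM eA2,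
      comm_e7 C ha hb hab M hM eA3, comm_e7 C ha hb hab M hM eA4, comm_e7 C ha hb hab M hM eA5,
      comm_e7 C ha hb hab M hM eA6]
  refine rigid C ha hb hab M hM (hall 0 (by simp)) (hall 1 (by simp)) (by simp) e7Rig_ok fun x hx => ?_
  simp only [List.mem_cons, List.not_mem_nil, or_false] at hx
  rcases hx with rfl | rfl | rfl | rfl | rfl <;>
    first
      | exact conf_two (pt := M.pt) (a := a) (b := b) (n := 2) (by norm_num) ▸ hall 2 (by simp)
      | exact conf_two (pt := M.pt) (a := a) (b := b) (n := 3) (by norm_num) ▸ hall 3 (by simp)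
      | exact conf_two (pt := M.pt) (a := a) (b := b) (n := 4) (by norm_num) ▸ hall 4 (by simp)
      | exact conf_two (pt := M.pt) (a := a) (b := b) (n := 5) (by norm_num) ▸ hall 5 (by simp)
      | exact conf_two (pt := M.pt) (a := a) (b := b) (n := 7) (by norm_num) ▸ hall 7 (by simp)

/-- No member commutes with the six points of the configuration and with `b`. -/
theorem no_seven {z : G} (hz : z ∈ D) (hzb : Commute z b)
    (hz6 : ∀ k, 2 ≤ k → k < 8 → Commute z (conf M.pt a b k)) : False := by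
  have six : ∀ c ∈ [cpt 2, cpt 3, cpt 4, cpt 5, cpt 6, cpt 7], isPt c = true ∧ Commute z (M.pt c) ∧ M.pt c ≠ z := by
    intro c hc
    obtain ⟨k, hk, hk2, rfl⟩ : ∃ k, 2 ≤ k ∧ k < 8 ∧ c = cpt k := by
      simp only [List.mem_cons, List.not_mem_nil, or_false] at hc
      rcases hc with h | h | h | h | h | h
      exacts [⟨2, by norm_num, by norm_num, h⟩, ⟨3, by norm_num, by norm_num, h⟩, ⟨4, by norm_num, by norm_num, h⟩,
        ⟨5, by norm_num, by norm_num, h⟩, ⟨6, by norm_num, by norm_num, h⟩, ⟨7, by norm_num, by norm_num, h⟩]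
    refine ⟨(cpt_data k (by omega) hk).1, conf_two (pt := M.pt) (a := a) (b := b) hk ▸ hz6 k hk hk2, fun e => ?_⟩
    obtain ⟨l, hl, hl2, he⟩ : ∃ l, 2 ≤ l ∧ l < 8 ∧ edge k l = true := by
      interval_cases k
      exacts [⟨3, by decide⟩, ⟨2, by decide⟩, ⟨3, by decide⟩, ⟨4, by decide⟩, ⟨5, by decide⟩, ⟨3, by decide⟩]
    have h1 := (conf_comm C ha hb hab M hM (i := k) (j := l) (by omega) (by omega)).1
      (by rw [conf_two hk, e]; exact hz6 l hl hl2)
    exact Bool.false_ne_true (h1.symm.trans he)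
  by_cases hza : Commute a z
  · have hne : z ≠ a := fun e => hab (e ▸ hzb)
    obtain ⟨x, hx, rfl⟩ := M.surj z ⟨hz, hne, hza⟩
    have hW : inW x = true := (hM x hx).1
      ⟨⟨hz, hne, hza⟩, hz, fun e => hab (e ▸ hza), hzb.symm⟩
    have h := no_seventh
    simp only [List.all_eq_true] at h
    have h' := h x ((inW_iff hx).1 hW)
    rw [show ([cpt 2, cpt 3, cpt 4, cpt 5, cpt 6, cpt 7].all fun y => adj x y) = true from
      List.all_eq_true.2 fun c hc => (M.comm x c hx (six c hc).1).1 (six c hc).2.1, Bool.not_true, Bool.false_or,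
      has_iff] at h'
    exact (six x h').2.2 rfl
  · have hin : ∀ c ∈ [cpt 2, cpt 3, cpt 4, cpt 5, cpt 6, cpt 7], isPt c = true ∧ M.pt c ∈ common D a z := fun c hc =>
      ⟨(six c hc).1, M.mem c (six c hc).1, (M.mem c (six c hc).1).1, (six c hc).2.2, (six c hc).2.1⟩
    have hL := derive_all (P := fun x => isPt x = true ∧ M.pt x ∈ common D a z) (fun p c hp hc =>
      ⟨(M.conj p c hp.1 hc.1).1, common_closed C ha hz hza M hp.1 hc.1 hp.2 hc.2⟩) sixDer
      [cpt 2, cpt 3, cpt 4, cpt 5, cpt 6, cpt 7] (by simp) hin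
    have h := six_ok
    split at h
    · rename_i p q w _
      simp only [Bool.and_eq_true, has_iff, Bool.not_eq_true', ← Bool.not_eq_true, Nat.beq_eq] at h
      obtain ⟨⟨⟨⟨⟨⟨⟨⟨⟨hp, hq⟩, hw⟩, n1⟩, n2⟩, n3⟩, a1⟩, a2⟩, a3⟩, hl⟩ := h
      rw [no_line C ha hz hza M (hL p hp).1 (hL q hq).1 (hL w hw).1 (hL p hp).2 (hL q hq).2 (hL w hw).2
        n1 n2 n3 a1 a2 a3] at hl
      exact Bool.false_ne_true hl
    · simp at h

/-- The facts at the pair `b`, `c`. -/
theorem relations_BS : wev (conf M.pt a b) [1, 2, 3, 4, 5, 6, 7] ^ 9 = 1 ∧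
    wev (conf M.pt a b) [3, 2, 1, 3, 4, 5, 3, 7, 8] ^ 10 = 1 := by
  have hB : ∀ s ∈ [1, 2, 3, 4, 5, 6, 7], Commute (wev (conf M.pt a b) wB) (conf M.pt a b s) := by
    rw [← letters_B]
    intro s hs
    obtain ⟨d, hd, rfl⟩ := List.mem_map.1 hs
    simp only [List.mem_cons, List.not_mem_nil, or_false] at hd
    rcases hd with rfl | rfl | rfl | rfl | rfl | rfl | rfl
    exacts [comm_e7 C ha hb hab M hM eB0, comm_e7 C ha hb hab M hM eB1, comm_e7 C ha hb hab M hM eB2,
      comm_e7 C ha hb hab M hM eB3, comm_e7 C ha hb hab M hM eB4, comm_e7 C ha hb hab M hM eB5,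
      comm_e7 C ha hb hab M hM eB6]
  have hS : ∀ s ∈ [1, 2, 3, 4, 5, 7, 8], Commute (wev (conf M.pt a b) wS) (conf M.pt a b s) := by
    rw [← letters_S]
    intro s hs
    obtain ⟨d, hd, rfl⟩ := List.mem_map.1 hs
    simp only [List.mem_cons, List.not_mem_nil, or_false] at hd
    rcases hd with rfl | rfl | rfl | rfl | rfl | rfl | rfl
    exacts [comm_sp C ha hb hab M hM eS0, comm_sp C ha hb hab M hM eS1, comm_sp C ha hb hab M hM eS2,
      comm_sp C ha hb hab M hM eS3, comm_sp C ha hb hab M hM eS4, comm_sp C ha hb hab M hM eS5,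
      comm_sp C ha hb hab M hM eS6]
  have hc := conf_comm C ha hb hab M hM (i := 1) (j := 2) (by norm_num) (by norm_num)
  have hbc : ¬ Commute (conf M.pt a b 1) (conf M.pt a b 2) := fun k => absurd (hc.1 k) (by decide)
  have hcD := conf_mem C ha hb hab M hM (i := 2) (by norm_num)
  have hbD := conf_mem C ha hb hab M hM (i := 1) (by norm_num)
  have inj := @conf_inj G _ _ D a b C ha hb hab M hM
  have perp1 : ∀ n, 3 ≤ n → n < 9 → conf M.pt a b n ∈ perp D (conf M.pt a b 1) := fun n h3 h9 =>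
    ⟨conf_mem C ha hb hab M hM h9, fun e => absurd (inj h9 (by norm_num) e) (by omega),
      (conf_comm C ha hb hab M hM (by norm_num) h9).2 (by interval_cases n <;> rfl)⟩
  have perp2 : ∀ n, 4 ≤ n → n < 9 → conf M.pt a b n ∈ perp D (conf M.pt a b 2) := fun n h4 h9 =>
    ⟨conf_mem C ha hb hab M hM h9, fun e => absurd (inj h9 (by norm_num) e) (by omega),
      (conf_comm C ha hb hab M hM (by norm_num) h9).2 (by interval_cases n <;> rfl)⟩
  have hidx : ∀ i : Fin 5, 4 ≤ [6, 5, 4, 7, 8].getD i.val 0 ∧ [6, 5, 4, 7, 8].getD i.val 0 < 9 := by decide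
  obtain ⟨hO1, hO2⟩ := outer C hbD hcD hbc (fun i : Fin 5 => conf M.pt a b ([6, 5, 4, 7, 8].getD i.val 0))
    (fun i j e => by
      have := inj (hidx i).2 (hidx j).2 e
      revert this
      fin_cases i <;> fin_cases j <;> decide)
    (fun i => ⟨perp1 _ (by have := hidx i; omega) (hidx i).2, perp2 _ (hidx i).1 (hidx i).2⟩)
    (fun i j hij => by
      rw [conf_comm C ha hb hab M hM (hidx i).2 (hidx j).2]
      revert hij
      fin_cases i <;> fin_cases j <;> decide)
    (u := conf M.pt a b 3) (perp1 3 le_rfl (by norm_num))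
    (fun k => absurd ((conf_comm C ha hb hab M hM (by norm_num) (by norm_num)).1 k) (by decide))
    (fun i => by
      rw [conf_comm C ha hb hab M hM (by norm_num) (hidx i).2]
      fin_cases i <;> decide)
  refine ⟨?_, ?_⟩
  · rw [← wev_rep]
    rcases hO2 with h | ⟨z, hz, z3, z0, z1, z2, z3'⟩
    · exact h _ (hB 1 (by simp)) (hB 2 (by simp)) (hB 3 (by simp)) (hB 6 (by simp)) (hB 5 (by simp))
        (hB 4 (by simp)) (hB 7 (by simp))
    · refine (no_seven C ha hb hab M hM hz.1.1 ?_ fun k hk hk8 => ?_).elim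
      · have := hz.1.2.2.symm
        simpa [conf] using this
      · interval_cases k
        exacts [hz.2.2.2.symm, z3, z2, z1, z0, z3']
  · rw [← wev_rep]
    exact hO1 _ (hS 1 (by simp)) (hS 2 (by simp)) (hS 3 (by simp)) (hS 5 (by simp)) (hS 4 (by simp))
      (hS 7 (by simp)) (hS 8 (by simp))

end Cfsg.Agent.Fus.M22U
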