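import Cfsg.Agent.Lib.Fus.M22U.Relabel
import Cfsg.Agent.Lib.Block.FischerTypes.M22Counts

/-! The members commuting with a transposition, numbered so that those commuting with a given apart one are standard. -/

set_option autoImplicit false
set_option linter.style.haveILetI false
set_option linter.unusedSectionVars false
set_option maxRecDepth 20000
set_option maxHeartbeats 1000000

namespace Cfsg.Agent.Fus.M22U

open Cfsg Cfsg.Agent.Spor.ThreeTrans Cfsg.Agent.Block.FischerTypes Cfsg.Agent.Block.FischerTypes.U6Code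
open scoped _root_.Classical

variable {G : Type*} [Group G] [Finite G] {D : Set G} {a b : G}

/-- The members commuting with `a` and `b` have the standard numbers. -/
def IsNormal (M : Model D a) (b : G) : Prop :=
  ∀ x, isPt x = true → (M.pt x ∈ common D a b ↔ inW x = true)

theorem inW_iff {x : ℕ} (hx : isPt x = true) : inW x = true ↔ x ∈ w0List := by
  have h := mask_ok
  simp only [List.all_eq_true] at h
  rw [eq_of_beq (h x (List.mem_range.2 (lt_of_isPt hx))), has_iff]

theorem beq_false {x y : ℕ} (h : x ≠ y) : Nat.beq x y = false :=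
  Bool.eq_false_iff.2 fun e => h (Nat.eq_of_beq_eq_true e)

theorem o_pt {x : ℕ} (hx : x ∈ oList) : isPt x = true := by
  have h := w0_ok
  simp only [Bool.and_eq_true, List.all_eq_true] at h
  exact h.1.1.1.1.2 x hx

theorem w0_pt {x : ℕ} (hx : x ∈ w0List) : isPt x = true := by
  have h := w0_ok
  simp only [Bool.and_eq_true, List.all_eq_true] at h
  exact h.1.1.1.1.1.1.1.2 x hx

theorem w0_card : w0List.toFinset.card = 126 := by
  have h := w0_ok
  simp only [Bool.and_eq_true, decide_eq_true_eq] at h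
  rw [List.toFinset_card_of_nodup h.1.1.1.1.1.1.2]
  exact Nat.eq_of_beq_eq_true h.1.1.1.1.1.1.1.1

theorem oList_eq : oList = [b0, b1, b2] ++ arcs.getD 0 [] := by
  have h := w0_ok
  simp only [Bool.and_eq_true, beq_iff_eq] at h
  exact h.1.1.2

theorem pairList_iff {x : ℕ} : x ∈ pairList ↔ isPt x = true ∧ adj b0 x = true ∧ adj b1 x = true := by
  simp [pairList, List.mem_filter, mem_ptList, and_assoc]

section

variable (C : M22.Ctx D) (ha : a ∈ D) (hb : b ∈ D) (hab : ¬ Commute a b)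
include C ha hb hab

theorem no_three : NoThree D a (common D a b) :=
  noThree C.set (M22.numbered_ctx C) ha hb hab

theorem card_common : (common D a b).ncard = 126 :=
  (card_apart_common C.set (M22.numbered_ctx C) C.meets).1 a ha b hb hab

theorem no_line (M : Model D a) {u v w : ℕ} (hu : isPt u = true) (hv : isPt v = true) (hw : isPt w = true)
    (mu : M.pt u ∈ common D a b) (mv : M.pt v ∈ common D a b) (mw : M.pt w ∈ common D a b) (h1 : u ≠ v)
    (h2 : u ≠ w) (h3 : v ≠ w) (a1 : adj u v = true) (a2 : adj u w = true) (a3 : adj v w = true) :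
    onLine u v w = false := by
  refine Bool.eq_false_iff.2 fun e => ?_
  exact no_three C ha hb hab _ mu _ mv _ mw (fun k => h1 (M.inj _ _ hu hv k)) (fun k => h2 (M.inj _ _ hu hw k))
    (fun k => h3 (M.inj _ _ hv hw k)) ((M.comm u v hu hv).2 a1) ((M.comm u w hu hw).2 a2) ((M.comm v w hv hw).2 a3)
    (M.lineT hu hv hw e)

/-- The numbers of the members commuting also with two members. -/
theorem card_pair (M : Model D a) {u v : ℕ} (hu : isPt u = true) (hv : isPt v = true)
    (mu : M.pt u ∈ common D a b) (mv : M.pt v ∈ common D a b) (hne : u ≠ v) (huv : adj u v = true) :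
    (ptList.toFinset.filter fun x => M.pt x ∈ common D a b ∧ adj u x = true ∧ adj v x = true).card = 14 := by
  rw [← nbr_both C.set (M22.numbered_ctx C) ha hb hab mu mv (fun e => hne (M.inj _ _ hu hv e.symm))
    ((M.comm u v hu hv).2 huv), ← Set.ncard_coe_finset, ← Set.InjOn.ncard_image (f := M.pt) ?_]
  · congr 1
    ext y
    simp only [Set.mem_image, Finset.coe_filter, List.mem_toFinset, Set.mem_setOf_eq, mem_ptList]
    constructor
    · rintro ⟨x, ⟨hx, hm, h1, h2⟩, rfl⟩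
      exact ⟨hm, (M.comm u x hu hx).2 h1, (M.comm v x hv hx).2 h2⟩
    · rintro ⟨hm, h1, h2⟩
      obtain ⟨x, hx, rfl⟩ := M.surj y hm.1
      exact ⟨x, ⟨hx, hm, (M.comm u x hu hx).1 h1, (M.comm v x hv hx).1 h2⟩, rfl⟩
  · intro x hx y hy e
    simp only [Finset.coe_filter, List.mem_toFinset, Set.mem_setOf_eq, mem_ptList] at hx hy
    exact M.inj x y hx.1 hy.1 e

/-- A first triangle. -/
theorem exists_triangle :
    ∃ M : Model D a, M.pt b0 ∈ common D a b ∧ M.pt b1 ∈ common D a b ∧ M.pt b2 ∈ common D a b := by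
  have h126 := card_common C ha hb hab
  obtain ⟨s, hs⟩ := Set.nonempty_of_ncard_ne_zero (s := common D a b) (by omega)
  have h46 := nbr_common C.set (M22.numbered_ctx C) ha hb hab hs
  obtain ⟨y, hy, hys⟩ := Set.exists_ne_of_one_lt_ncard (by rw [h46]; norm_num) s
  obtain ⟨M₀⟩ := M22.numbered_ctx C a ha
  obtain ⟨M, e0, e1⟩ := M₀.exists_pair C.set.cls hs.1 hy.1.1 (Ne.symm hys) hy.2
  have m0 : M.pt b0 ∈ common D a b := e0 ▸ hs
  have m1 : M.pt b1 ∈ common D a b := e1 ▸ hy.1
  have hb01 : adj b0 b1 = true ∧ b0 ≠ b1 := by decide +kernel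
  have h14 := card_pair C ha hb hab M Model.pt_b0 Model.pt_b1 m0 m1 hb01.2 hb01.1
  obtain ⟨c, hc, hoff⟩ : ∃ c ∈ ptList.toFinset.filter fun x => M.pt x ∈ common D a b ∧ adj b0 x = true ∧ adj b1 x = true,
      c ∉ ({b0, b1} : Finset ℕ) := Finset.exists_mem_notMem_of_card_lt_card (by
    rw [h14]
    exact lt_of_le_of_lt Finset.card_le_two (by norm_num))
  simp only [Finset.mem_filter, List.mem_toFinset, mem_ptList] at hc
  simp only [Finset.mem_insert, Finset.mem_singleton, not_or] at hoff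
  obtain ⟨hcp, hcm, c0', c1'⟩ := hc
  obtain ⟨g, hg, e, hfix⟩ := M.move C.set.cls (B := [b0, b1]) (by simp [Model.pt_b0, Model.pt_b1])
    Model.pt_b2 tr2_ok (c := c) (by
      refine List.mem_filter.2 ⟨mem_ptList.2 hcp, ?_⟩
      rw [c0', c1', no_line C ha hb hab M Model.pt_b0 Model.pt_b1 hcp m0 m1 hcm hb01.2 (Ne.symm hoff.1) (Ne.symm hoff.2)
        hb01.1 c0' c1']
      simp [beq_false hoff.1, beq_false hoff.2])
  refine ⟨M.conjBy C.set.cls g (Model.commute_perp hg), ?_, ?_, ?_⟩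
  · show g * M.pt b0 * g⁻¹ ∈ _
    rwa [hfix b0 (by simp)]
  · show g * M.pt b1 * g⁻¹ ∈ _
    rwa [hfix b1 (by simp)]
  · show g * M.pt b2 * g⁻¹ ∈ _
    rwa [e]

/-- The six in the plane. -/
theorem exists_six : ∃ M : Model D a, ∀ o ∈ oList, M.pt o ∈ common D a b := by
  obtain ⟨M, m0, m1, m2⟩ := exists_triangle C ha hb hab
  have hb01 : adj b0 b1 = true ∧ b0 ≠ b1 := by decide +kernel
  have h14 := card_pair C ha hb hab M Model.pt_b0 Model.pt_b1 m0 m1 hb01.2 hb01.1
  set T := ptList.toFinset.filter fun x => M.pt x ∈ common D a b ∧ adj b0 x = true ∧ adj b1 x = true with hT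
  have hTpt : ∀ x ∈ T, isPt x = true ∧ M.pt x ∈ common D a b := fun x hx => by
    simp only [hT, Finset.mem_filter, List.mem_toFinset, mem_ptList] at hx
    exact ⟨hx.1, hx.2.1⟩
  obtain ⟨P0, P1, P2, hP⟩ : ∃ P0 P1 P2, planes3 = [P0, P1, P2] := ⟨_, _, _, rfl⟩
  have hp := planes_ok
  have hp0 := plane0_ok
  simp only [hP, List.all_cons, List.all_nil, List.any_cons, List.any_nil, Bool.and_eq_true, Bool.or_eq_true,
    Bool.and_true, Bool.or_false, List.all_eq_true, List.any_eq_true, List.getD_cons_zero] at hp hp0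
  obtain ⟨⟨-, ⟨⟨hl0, hP0⟩, ⟨hl1, hP1⟩, ⟨hl2, hP2⟩⟩⟩, hcov⟩ := hp
  have small : ∀ ls : List (List ℕ), Nat.beq ls.length 4 = true →
      (∀ l ∈ ls, isLine l = true ∧ has l b0 = true) →
      ((ls.toFinset.biUnion List.toFinset ∩ T).erase b0).card ≤ 4 := by
    intro ls hlen hls
    have h1 : ((ls.toFinset.biUnion List.toFinset ∩ T).erase b0) ⊆
        ls.toFinset.biUnion fun l => (l.toFinset ∩ T).erase b0 := fun x hx => by
      simp only [Finset.mem_erase, Finset.mem_inter, Finset.mem_biUnion] at hx ⊢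
      obtain ⟨hne, ⟨l, hl, hxl⟩, hxT⟩ := hx
      exact ⟨l, hl, hne, hxl, hxT⟩
    refine (Finset.card_le_card h1).trans (Finset.card_biUnion_le_card_mul _ _ 1 fun l hl => ?_) |>.trans ?_
    · have hl' := hls l (List.mem_toFinset.1 hl)
      have hb0 : b0 ∈ l.toFinset ∩ T := Finset.mem_inter.2 ⟨List.mem_toFinset.2 (has_iff.1 hl'.2), by
        simp only [hT, Finset.mem_filter, List.mem_toFinset, mem_ptList]
        exact ⟨Model.pt_b0, m0, adj_self Model.pt_b0, by rw [adj_comm]; exact hb01.1⟩⟩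
      have := M.isLine_le_two (no_three C ha hb hab) hl'.1 T fun x hx => (hTpt x hx).2
      rw [Finset.card_erase_of_mem hb0]
      omega
    · have := List.toFinset_card_le ls
      have := Nat.eq_of_beq_eq_true hlen
      omega
  set U0 := P0.2.toFinset.biUnion List.toFinset
  set U1 := P1.2.toFinset.biUnion List.toFinset
  set U2 := P2.2.toFinset.biUnion List.toFinset
  have hsub : T ⊆ ({b0, b1} : Finset ℕ) ∪ ((U0 ∩ T).erase b0 ∩ plane0.toFinset ∪
      ((U1 ∩ T).erase b0 ∪ (U2 ∩ T).erase b0)) := by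
    intro x hx
    by_cases e : x ∈ ({b0, b1} : Finset ℕ)
    · exact Finset.mem_union_left _ e
    refine Finset.mem_union_right _ ?_
    simp only [Finset.mem_insert, Finset.mem_singleton, not_or] at e
    have hx' := hx
    simp only [hT, Finset.mem_filter, List.mem_toFinset, mem_ptList] at hx'
    have hnl : onPair x = false := by
      simp [onPair, beq_false e.1, beq_false e.2,
        no_line C ha hb hab M Model.pt_b0 Model.pt_b1 hx'.1 m0 m1 hx'.2.1 hb01.2 (Ne.symm e.1) (Ne.symm e.2)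
          hb01.1 hx'.2.2.1 hx'.2.2.2]
    have := (hcov x (pairList_iff.2 ⟨hx'.1, hx'.2.2⟩)).resolve_left (by simp [hnl])
    rcases this with ⟨l, hl, hxl⟩ | ⟨l, hl, hxl⟩ | ⟨l, hl, hxl⟩
    · refine Finset.mem_union_left _ (Finset.mem_inter.2 ⟨?_, ?_⟩)
      · simp only [U0, Finset.mem_erase, Finset.mem_inter, Finset.mem_biUnion, List.mem_toFinset]
        exact ⟨e.1, ⟨l, hl, has_iff.1 hxl⟩, hx⟩
      · rw [List.mem_toFinset, plane0, List.mem_filter]
        exact ⟨has_iff.1 (hp0 l hl x (has_iff.1 hxl)), by simp [hnl]⟩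
    · refine Finset.mem_union_right _ (Finset.mem_union_left _ ?_)
      simp only [U1, Finset.mem_erase, Finset.mem_inter, Finset.mem_biUnion, List.mem_toFinset]
      exact ⟨e.1, ⟨l, hl, has_iff.1 hxl⟩, hx⟩
    · refine Finset.mem_union_right _ (Finset.mem_union_right _ ?_)
      simp only [U2, Finset.mem_erase, Finset.mem_inter, Finset.mem_biUnion, List.mem_toFinset]
      exact ⟨e.1, ⟨l, hl, has_iff.1 hxl⟩, hx⟩
  set Q := (U0 ∩ T).erase b0 ∩ plane0.toFinset with hQ
  have hQ4 : 4 ≤ Q.card := by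
    have h1 := Finset.card_le_card hsub
    have h2 := Finset.card_union_le ({b0, b1} : Finset ℕ) (Q ∪ ((U1 ∩ T).erase b0 ∪ (U2 ∩ T).erase b0))
    have h3 := Finset.card_union_le Q ((U1 ∩ T).erase b0 ∪ (U2 ∩ T).erase b0)
    have h4 := Finset.card_union_le ((U1 ∩ T).erase b0) ((U2 ∩ T).erase b0)
    have h5 : ({b0, b1} : Finset ℕ).card ≤ 2 := Finset.card_le_two
    have h6 : ((U1 ∩ T).erase b0).card ≤ 4 := small P1.2 hl1 hP1
    have h7 : ((U2 ∩ T).erase b0).card ≤ 4 := small P2.2 hl2 hP2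
    omega
  obtain ⟨R, hR, hR3⟩ := Finset.exists_subset_card_eq (s := Q.erase b2) (n := 3) (by
    have := Finset.pred_card_le_card_erase (s := Q) (a := b2)
    omega)
  let e := R.orderEmbOfFin hR3
  have he : ∀ i, e i ∈ plane0 ∧ e i ≠ b2 ∧ isPt (e i) = true ∧ M.pt (e i) ∈ common D a b := fun i => by
    have := hR (R.orderEmbOfFin_mem hR3 i)
    simp only [hQ, Finset.mem_erase, Finset.mem_inter, List.mem_toFinset] at this
    exact ⟨this.2.2, this.1, hTpt _ this.2.1.2.2⟩
  have h01 : e 0 < e 1 := e.strictMono (by decide)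
  have h12 : e 1 < e 2 := e.strictMono (by decide)
  have hk := arcs_ok
  simp only [List.all_eq_true] at hk
  have hk' := hk (e 0) (he 0).1 (e 1) (he 1).1 (e 2) (he 2).1
  have hblt : ∀ {p q : ℕ}, p < q → Nat.blt p q = true := fun h => Nat.ble_eq_true_of_le h
  simp only [hblt h01, hblt h12, Bool.not_true, Bool.false_or, Bool.or_eq_true, Nat.beq_eq, (he 0).2.1,
    (he 1).2.1, (he 2).2.1, false_or] at hk'
  simp only [arcOk, Bool.or_eq_true, List.any_eq_true, Bool.and_eq_true, has_iff] at hk'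
  rcases hk' with ⟨A, hA, ⟨a0, a1⟩, a2⟩ | ⟨u, hu, v, hv, w, hw, k⟩
  swap
  · have six : ∀ x ∈ [b0, b1, b2, e 0, e 1, e 2], isPt x = true ∧ M.pt x ∈ common D a b := by
      intro x hx
      simp only [List.mem_cons, List.not_mem_nil, or_false] at hx
      rcases hx with rfl | rfl | rfl | rfl | rfl | rfl
      exacts [⟨Model.pt_b0, m0⟩, ⟨Model.pt_b1, m1⟩, ⟨Model.pt_b2, m2⟩, (he 0).2.2, (he 1).2.2, (he 2).2.2]
    obtain ⟨⟨⟨⟨⟨⟨n1, n2⟩, n3⟩, a1⟩, a2⟩, a3⟩, hl⟩ := k
    simp only [Bool.not_eq_true', ← Bool.not_eq_true, Nat.beq_eq] at n1 n2 n3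
    rw [no_line C ha hb hab M (six u hu).1 (six v hv).1 (six w hw).1 (six u hu).2 (six v hv).2 (six w hw).2
      n1 n2 n3 a1 a2 a3] at hl
    exact absurd hl Bool.false_ne_true
  have hs := sig_ok
  simp only [Bool.and_eq_true, List.all_eq_true, Nat.beq_eq, has_iff] at hs
  obtain ⟨⟨⟨⟨⟨⟨-, f0⟩, f1⟩, f2⟩, harc⟩, hlen⟩, hlen3⟩ := hs
  have hall : ∀ x ∈ A, M.pt x ∈ common D a b := by
    intro x hx
    have hsub : ({e 0, e 1, e 2} : Finset ℕ) ⊆ A.toFinset := by
      intro z hz
      simp only [Finset.mem_insert, Finset.mem_singleton] at hz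
      rcases hz with rfl | rfl | rfl <;> simp [a0, a1, a2]
    have hc3 : ({e 0, e 1, e 2} : Finset ℕ).card = 3 := by
      rw [Finset.card_insert_of_notMem (by simp [h01.ne, (h01.trans h12).ne]), Finset.card_pair h12.ne]
    have := Finset.eq_of_subset_of_card_le hsub (by
      rw [hc3]
      exact (List.toFinset_card_le A).trans (hlen3 A hA).le)
    have hx' : x ∈ ({e 0, e 1, e 2} : Finset ℕ) := this ▸ List.mem_toFinset.2 hx
    simp only [Finset.mem_insert, Finset.mem_singleton] at hx'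
    rcases hx' with rfl | rfl | rfl
    exacts [(he 0).2.2.2, (he 1).2.2.2, (he 2).2.2.2]
  obtain ⟨A0, A1, A2, hA3⟩ : ∃ A0 A1 A2, arcs = [A0, A1, A2] := ⟨_, _, _, rfl⟩
  have opt : ∀ x ∈ A0, isPt x = true := fun x hx => o_pt (by rw [oList_eq, hA3]; simp [hx])
  simp only [hA3, List.getD_cons_zero, List.getD_cons_succ] at harc
  simp only [hA3, List.mem_cons, List.not_mem_nil, or_false] at hA
  have finish : ∀ N : Model D a, N.pt b0 = M.pt b0 → N.pt b1 = M.pt b1 → N.pt b2 = M.pt b2 →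
      (∀ x ∈ A0, N.pt x ∈ common D a b) → ∀ o ∈ oList, N.pt o ∈ common D a b := by
    intro N k0 k1 k2 k3 o ho
    rw [oList_eq, hA3] at ho
    simp only [List.getD_cons_zero, List.mem_append, List.mem_cons, List.not_mem_nil, or_false] at ho
    rcases ho with (rfl | rfl | rfl) | ho
    exacts [k0 ▸ m0, k1 ▸ m1, k2 ▸ m2, k3 o ho]
  rcases hA with rfl | rfl | rfl
  · exact ⟨M, finish M rfl rfl rfl hall⟩
  · obtain ⟨N, hN⟩ := exists_sig C.set.cls M
    exact ⟨N, finish N (by rw [hN _ Model.pt_b0, f0]) (by rw [hN _ Model.pt_b1, f1]) (by rw [hN _ Model.pt_b2, f2])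
      fun x hx => by rw [hN _ (opt x hx)]; exact hall _ (harc x hx).1⟩
  · obtain ⟨N, hN⟩ := exists_sig C.set.cls M
    obtain ⟨N', hN'⟩ := exists_sig C.set.cls N
    exact ⟨N', finish N' (by rw [hN' _ Model.pt_b0, f0, hN _ Model.pt_b0, f0])
      (by rw [hN' _ Model.pt_b1, f1, hN _ Model.pt_b1, f1]) (by rw [hN' _ Model.pt_b2, f2, hN _ Model.pt_b2, f2])
      fun x hx => by rw [hN' _ (opt x hx), hN _ (sig_pt (opt x hx)).1]; exact hall _ (harc x hx).2⟩

/-- A member off the plane commuting with two of the six. -/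
theorem exists_off (M : Model D a) (hO : ∀ o ∈ oList, M.pt o ∈ common D a b) {i j : ℕ}
    (hi : i < oList.length) (hj : j < oList.length) (hne : oList.getD i 0 ≠ oList.getD j 0)
    (hadj : adj (oList.getD i 0) (oList.getD j 0) = true) : ∃ x ∈ offList i j, M.pt x ∈ common D a b := by
  have hio : oList.getD i 0 ∈ oList := by rw [List.getD_eq_getElem _ _ hi]; exact List.getElem_mem hi
  have hjo : oList.getD j 0 ∈ oList := by rw [List.getD_eq_getElem _ _ hj]; exact List.getElem_mem hj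
  have h14 := card_pair C ha hb hab M (o_pt hio) (o_pt hjo) (hO _ hio) (hO _ hjo) hne hadj
  have hlt : oList.toFinset.card < 14 := by
    have := List.toFinset_card_le oList
    have : oList.length = 6 := rfl
    omega
  obtain ⟨x, hx, hxo⟩ := Finset.exists_mem_notMem_of_card_lt_card (h14.symm ▸ hlt)
  simp only [Finset.mem_filter, List.mem_toFinset, mem_ptList] at hx
  rw [List.mem_toFinset] at hxo
  refine ⟨x, List.mem_filter.2 ⟨mem_ptList.2 hx.1, ?_⟩, hx.2.1⟩
  rw [hx.2.2.1, hx.2.2.2, Bool.true_and, Bool.true_and, Bool.not_eq_true', ← Bool.not_eq_true, has_iff]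
  intro hp
  have hs := secants_ok
  simp only [List.all_eq_true, Bool.or_eq_true, List.any_eq_true, Bool.and_eq_true, has_iff,
    Bool.not_eq_true', ← Bool.not_eq_true, Nat.beq_eq] at hs
  obtain ⟨u, hu, v, hv, ⟨⟨⟨⟨⟨n1, n2⟩, n3⟩, a1⟩, a2⟩, a3⟩, hl⟩ := (hs x hp).resolve_left hxo
  rw [no_line C ha hb hab M (o_pt hu) (o_pt hv) hx.1 (hO u hu) (hO v hv) hx.2.1 n1 n2 n3 a1 a2 a3] at hl
  exact Bool.false_ne_true hl

theorem common_closed (M : Model D a) {p c : ℕ} (hp : isPt p = true) (hc : isPt c = true)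
    (mp : M.pt p ∈ common D a b) (mc : M.pt c ∈ common D a b) : M.pt (refl p c) ∈ common D a b := by
  have := conj_common C.set ha hb hab mp.1.2.2.symm mp.2.2.2.symm mc
  rwa [inv_eq C.set.cls.1 mp.1.1, (M.conj p c hp hc).2] at this

/-- A numbering in which the members commuting with `b` are the standard ones. -/
theorem exists_normal : ∃ M : Model D a, IsNormal M b := by
  have hS := C.set.cls
  obtain ⟨M, hO⟩ := exists_six C ha hb hab
  have hi : (1 : ℕ) < oList.length ∧ 2 < oList.length ∧ 3 < oList.length ∧ oList.getD 0 0 ≠ oList.getD 1 0 ∧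
      adj (oList.getD 0 0) (oList.getD 1 0) = true ∧ oList.getD 2 0 ≠ oList.getD 3 0 ∧
      adj (oList.getD 2 0) (oList.getD 3 0) = true ∧ oList.getD 0 0 ≠ oList.getD 2 0 ∧
      adj (oList.getD 0 0) (oList.getD 2 0) = true ∧ isPt x1 = true := by decide +kernel
  obtain ⟨i1, i2, i3, n01, a01, n23, a23, n02, a02, hx1⟩ := hi
  have moved : ∀ (M : Model D a) (w : List ℕ), fixO w = true → (∀ o ∈ oList, M.pt o ∈ common D a b) →
      ∃ N : Model D a, (∀ o ∈ oList, N.pt o ∈ common D a b) ∧ ∀ x, isPt x = true → N.pt x = M.pt (act w x) := by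
    intro M w hw hO
    simp only [fixO, Bool.and_eq_true, List.all_eq_true, Nat.beq_eq] at hw
    obtain ⟨_, -, N, hN⟩ := exists_moved hS M hw.1
    exact ⟨N, fun o ho => by rw [(hN o (o_pt ho)).2.2, hw.2 o ho]; exact hO o ho, fun x hx => (hN x hx).2.2⟩
  obtain ⟨u, hu, mu⟩ := exists_off C ha hb hab M hO (by omega) i1 n01 a01
  have h1 := tr1x_ok
  simp only [List.all_eq_true, List.any_eq_true, Bool.and_eq_true, Nat.beq_eq] at h1
  obtain ⟨e, -, ⟨hc, hw⟩, hact⟩ := h1 u hu
  obtain ⟨M1, hO1, hM1⟩ := moved M e.2 hw hO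
  have m1 : M1.pt x1 ∈ common D a b := by rw [hM1 _ hx1, hact]; exact mu
  obtain ⟨u, hu, mu⟩ := exists_off C ha hb hab M1 hO1 i2 i3 n23 a23
  have h2 := tr2x_ok
  simp only [List.all_eq_true, List.any_eq_true, Bool.and_eq_true, Nat.beq_eq] at h2
  obtain ⟨e', -, ⟨⟨⟨hc', hw'⟩, hf'⟩, hact'⟩, hrep⟩ := h2 u hu
  obtain ⟨M2, hO2, hM2⟩ := moved M1 e'.2.2 hw' hO1
  set x2 := e'.2.1
  have hx2p : ∀ x ∈ x2s, isPt x = true := by decide +kernel
  have hx2 := has_iff.1 hrep
  have m1' : M2.pt x1 ∈ common D a b := by rw [hM2 _ hx1, hf']; exact m1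
  have m2 : M2.pt x2 ∈ common D a b := by rw [hM2 _ (hx2p _ hx2), hact']; exact mu
  obtain ⟨x3, hx3, m3⟩ := exists_off C ha hb hab M2 hO2 (by omega) i2 n02 a02
  obtain ⟨l, hl⟩ : ∃ l, chkCases x2 l = true := by
    obtain ⟨r0, r1, r2, r3, hr⟩ : ∃ r0 r1 r2 r3, x2s = [r0, r1, r2, r3] := ⟨_, _, _, _, rfl⟩
    have k0 := cases0_ok
    have k1 := cases1_ok
    have k2 := cases2_ok
    have k3 := cases3_ok
    simp only [hr, List.getD_cons_zero, List.getD_cons_succ] at k0 k1 k2 k3
    rw [hr] at hx2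
    simp only [List.mem_cons, List.not_mem_nil, or_false] at hx2
    rcases hx2 with h | h | h | h <;> rw [h]
    exacts [⟨_, k0⟩, ⟨_, k1⟩, ⟨_, k2⟩, ⟨_, k3⟩]
  simp only [chkCases, Bool.and_eq_true, List.all_eq_true, List.any_eq_true, Nat.beq_eq] at hl
  obtain ⟨c, hcl, hc2, hc3⟩ := hl.2 x3 hx3
  have hcase := hl.1 c hcl
  simp only [chkCase, hc2, hc3] at hcase
  set L := derive (oList ++ [x1, x2, x3]) c.2.2.1
  have hL : ∀ x ∈ L, isPt x = true ∧ M2.pt x ∈ common D a b := by
    refine derive_all (P := fun x => isPt x = true ∧ M2.pt x ∈ common D a b) (fun p c hp hc =>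
      ⟨(M2.conj p c hp.1 hc.1).1, common_closed C ha hb hab M2 hp.1 hc.1 hp.2 hc.2⟩) _ _ (by simp) ?_
    intro x hx
    simp only [List.mem_append, List.mem_cons, List.not_mem_nil, or_false] at hx
    rcases hx with hx | rfl | rfl | rfl
    exacts [⟨o_pt hx, hO2 x hx⟩, ⟨hx1, m1'⟩, ⟨hx2p _ hx2, m2⟩,
      ⟨mem_ptList.1 (List.mem_filter.1 hx3).1, m3⟩]
  split at hcase
  · rename_i k _
    simp only [Bool.and_eq_true, List.all_eq_true, has_iff, Nat.blt, Nat.ble_eq] at hcase
    have hw : ∀ p ∈ wWords.getD k [], isPt p = true := by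
      have h := wWords_ok
      simp only [List.all_eq_true] at h
      rw [List.getD_eq_getElem _ _ hcase.1]
      exact h _ (List.getElem_mem hcase.1)
    obtain ⟨_, -, N, hN⟩ := exists_moved hS M2 hw
    have hin : ∀ x ∈ w0List, N.pt x ∈ common D a b := fun x hx => by
      rw [(hN x (w0_pt hx)).2.2]
      exact (hL _ (hcase.2 x hx)).2
    have heq : N.pt '' (↑w0List.toFinset : Set ℕ) = common D a b := by
      refine Set.eq_of_subset_of_ncard_le (fun y ⟨x, hx, e⟩ => e ▸ hin x (List.mem_toFinset.1 hx)) ?_ (Set.toFinite _)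
      rw [Set.InjOn.ncard_image fun x hx y hy e => N.inj x y (w0_pt (List.mem_toFinset.1 hx))
        (w0_pt (List.mem_toFinset.1 hy)) e, Set.ncard_coe_finset, w0_card, card_common C ha hb hab]
    refine ⟨N, fun x hx => ⟨fun h => ?_, fun h => hin x ((inW_iff hx).1 h)⟩⟩
    rw [← heq] at h
    obtain ⟨y, hy, e⟩ := h
    rw [inW_iff hx, ← N.inj y x (w0_pt (List.mem_toFinset.1 hy)) hx e]
    exact List.mem_toFinset.1 hy
  · split at hcase
    · rename_i p q z _
      simp only [Bool.and_eq_true, has_iff, Bool.not_eq_true', ← Bool.not_eq_true, Nat.beq_eq] at hcase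
      obtain ⟨⟨⟨⟨⟨⟨⟨⟨⟨hp, hq⟩, hz⟩, n1⟩, n2⟩, n3⟩, a1⟩, a2⟩, a3⟩, hl⟩ := hcase
      rw [no_line C ha hb hab M2 (hL p hp).1 (hL q hq).1 (hL z hz).1 (hL p hp).2 (hL q hq).2 (hL z hz).2
        n1 n2 n3 a1 a2 a3] at hl
      exact absurd hl Bool.false_ne_true
    · simp at hcase

end

end Cfsg.Agent.Fus.M22U
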