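import Cfsg.Agent.Lib.Block.FischerTypes.U6Code.Local
import Cfsg.Agent.Lib.Fus.M22U.Checks

/-! Moving numberings of the members commuting with a transposition. -/

set_option autoImplicit false
set_option linter.style.haveILetI false
set_option linter.unusedSectionVars false
set_option maxRecDepth 20000

namespace Cfsg.Agent.Fus.M22U

open Cfsg Cfsg.Agent.Spor.ThreeTrans Cfsg.Agent.Block.FischerTypes Cfsg.Agent.Block.FischerTypes.U6Code

theorem has_iff {L : List ℕ} {x : ℕ} : has L x = true ↔ x ∈ L := by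
  simp only [has, List.any_eq_true]
  exact ⟨fun ⟨y, hy, e⟩ => Nat.eq_of_beq_eq_true e ▸ hy, fun h => ⟨x, h, Nat.beq_refl x⟩⟩

theorem getD_mem {L : List ℕ} (i : ℕ) (hL : L ≠ []) : L.getD i (L.headD 0) ∈ L := by
  by_cases hi : i < L.length
  · rw [List.getD_eq_getElem _ _ hi]
    exact List.getElem_mem hi
  · rw [List.getD_eq_default _ _ (Nat.le_of_not_lt hi)]
    cases L with
    | nil => exact absurd rfl hL
    | cons x r => exact List.mem_cons_self

/-- Derived members inherit whatever is closed under transvections. -/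
theorem derive_all {P : ℕ → Prop} (hP : ∀ p c, P p → P c → P (refl p c)) :
    ∀ (r : List (ℕ × ℕ)) (L : List ℕ), L ≠ [] → (∀ x ∈ L, P x) → ∀ x ∈ derive L r, P x
  | [], _, _, h => h
  | e :: r, L, hne, h => derive_all hP r _ (List.append_ne_nil_of_left_ne_nil hne _) fun x hx => by
    rcases List.mem_append.1 hx with hx | hx
    · exact h x hx
    · obtain rfl := List.mem_singleton.1 hx
      exact hP _ _ (h _ (getD_mem e.1 hne)) (h _ (getD_mem e.2 hne))

theorem pt_gens {s : ℕ} (hs : s ∈ gens6) : isPt s = true := by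
  have h := w0_ok
  simp only [Bool.and_eq_true, List.all_eq_true] at h
  exact h.2 s hs

variable {G : Type*} [Group G] [Finite G] {D : Set G} {a : G}

/-- What holds at the six and is closed under transvections holds everywhere. -/
theorem of_gens (M : Model D a) {P : ℕ → Prop} (h6 : ∀ s ∈ gens6, P s)
    (hP : ∀ p c, isPt p = true → isPt c = true → P p → P c → P (refl p c)) {x : ℕ} (hx : isPt x = true) : P x := by
  have h := gen_ok
  simp only [List.all_eq_true] at h
  have hmem := has_iff.1 (h x (mem_ptList.2 hx))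
  exact (derive_all (P := fun y => isPt y = true ∧ P y)
    (fun p c hp hc => ⟨(M.conj p c hp.1 hc.1).1, hP p c hp.1 hc.1 hp.2 hc.2⟩) genDer gens6 (by decide)
    (fun s hs => ⟨pt_gens hs, h6 s hs⟩) x hmem).2

/-- Conjugating by a word. -/
theorem exists_moved (h : IsThreeTranspositionClass D) (M : Model D a) {w : List ℕ}
    (hw : ∀ p ∈ w, isPt p = true) : ∃ g ∈ PerpGroup D a, ∃ M' : Model D a, ∀ x, isPt x = true →
      M'.pt x = g * M.pt x * g⁻¹ ∧ isPt (act w x) = true ∧ M'.pt x = M.pt (act w x) := by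
  obtain ⟨g, hg, hgx⟩ := M.word h w hw
  exact ⟨g, hg, M.conjBy h g (Model.commute_perp hg), fun x hx => ⟨rfl, (hgx x hx).1, (hgx x hx).2⟩⟩

theorem refl_eq_self_iff (h : IsThreeTranspositionClass D) (M : Model D a) {p c : ℕ} (hp : isPt p = true)
    (hc : isPt c = true) : refl p c = c ↔ Commute (M.pt p) (M.pt c) := by
  obtain ⟨h1, h2⟩ := M.conj p c hp hc
  have hs := mul_self h.1 (M.mem p hp).1
  constructor
  · intro e
    rw [e] at h2
    calc M.pt p * M.pt c = M.pt p * M.pt c * (M.pt p * M.pt p) := by rw [hs, mul_one]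
      _ = M.pt c * M.pt p := by rw [← mul_assoc, h2]
  · intro k
    refine M.inj _ _ h1 hc ?_
    rw [← h2, k.eq, mul_assoc, hs, mul_one]

theorem sig_pt {c : ℕ} (hc : isPt c = true) : isPt (sig c) = true ∧ sig (sig (sig c)) = c := by
  have h := sig_ok
  simp only [Bool.and_eq_true, List.all_eq_true] at h
  obtain ⟨⟨⟨⟨⟨⟨h, -⟩, -⟩, -⟩, -⟩, -⟩, -⟩ := h
  exact ⟨(h c (mem_ptList.2 hc)).1, Nat.eq_of_beq_eq_true (h c (mem_ptList.2 hc)).2⟩

/-- Renumbering by the map of diagonal type. -/
theorem exists_sig (h : IsThreeTranspositionClass D) (M : Model D a) :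
    ∃ M' : Model D a, ∀ x, isPt x = true → M'.pt x = M.pt (sig x) := by
  classical
  let f : ℕ → G := fun x => M.pt (sig x)
  have hinj : ∀ c d, isPt c = true → isPt d = true → f c = f d → c = d := fun c d hc hd e => by
    rw [← (sig_pt hc).2, M.inj _ _ (sig_pt hc).1 (sig_pt hd).1 e, (sig_pt hd).2]
  have hid : ∀ p s c, isPt p = true → isPt s = true → isPt c = true →
      refl (refl s p) c = refl s (refl p (refl s c)) := fun p s c hp hs hc => by
    obtain ⟨h1, e1⟩ := M.conj s p hs hp
    obtain ⟨h2, e2⟩ := M.conj s c hs hc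
    obtain ⟨h3, e3⟩ := M.conj p _ hp h2
    obtain ⟨h4, e4⟩ := M.conj s _ hs h3
    obtain ⟨h5, e5⟩ := M.conj _ c h1 hc
    refine M.inj _ _ h5 h4 ?_
    rw [← e5, ← e4, ← e3, ← e2, ← e1]
    simp [mul_assoc]
  have key : ∀ p, isPt p = true → ∀ c, isPt c = true → f p * f c * f p = f (refl p c) := by
    intro p hp
    refine of_gens M (P := fun q => isPt q = true → ∀ c, isPt c = true → f q * f c * f q = f (refl q c))
      (fun s hs hs' c hc => ?_) (fun s q hs hq ks kq _ c hc => ?_) hp hp
    · have hk := sig_comm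
      simp only [List.all_eq_true] at hk
      show M.pt (sig s) * M.pt (sig c) * M.pt (sig s) = M.pt (sig (refl s c))
      rw [Nat.eq_of_beq_eq_true (hk s hs c (mem_ptList.2 hc))]
      exact (M.conj _ _ (sig_pt hs').1 (sig_pt hc).1).2
    · rw [hid q s c hq hs hc, ← ks hs q hq, ← ks hs _ ((M.conj q _ hq (M.conj s c hs hc).1).1),
        ← kq hq _ (M.conj s c hs hc).1, ← ks hs c hc]
      simp [mul_assoc]
  refine ⟨⟨f, fun c hc => M.mem _ (sig_pt hc).1, fun u hu => ?_, hinj, fun c d hc hd => ?_,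
    fun p c hp hc => ⟨(M.conj p c hp hc).1, key p hp c hc⟩⟩, fun x _ => rfl⟩
  · obtain ⟨c, hc, rfl⟩ := M.surj u hu
    obtain ⟨h1, -⟩ := sig_pt hc
    obtain ⟨h2, e⟩ := sig_pt h1
    refine ⟨sig (sig c), h2, ?_⟩
    show M.pt (sig (sig (sig c))) = M.pt c
    rw [(sig_pt hc).2]
  · have e1 : Commute (f c) (f d) ↔ f c * f d * f c = f d := by
      have hs : f c * f c = 1 := mul_self h.1 (M.mem _ (sig_pt hc).1).1
      constructor
      · intro k
        rw [k.eq, mul_assoc, hs, mul_one]
      · intro e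
        calc f c * f d = f c * f d * (f c * f c) := by rw [hs, mul_one]
          _ = f d * f c := by rw [← mul_assoc, e]
    rw [e1, key c hc d hd, ← M.comm c d hc hd, ← refl_eq_self_iff h M hc hd]
    exact ⟨hinj _ _ (M.conj c d hc hd).1 hd, fun e => by rw [e]⟩

end Cfsg.Agent.Fus.M22U
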