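import Cfsg.Agent.Lib.Fus.M22U.Normal

/-! A chain of five common members leaves no freedom. -/

set_option autoImplicit false
set_option linter.style.haveILetI false
set_option linter.unusedSectionVars false
set_option maxRecDepth 20000
set_option maxHeartbeats 1000000

namespace Cfsg.Agent.Fus.M22U

open Cfsg Cfsg.Agent.Spor.ThreeTrans Cfsg.Agent.Block.FischerTypes Cfsg.Agent.Block.FischerTypes.U6Code

variable {G : Type*} [Group G] [Finite G] {D : Set G} {a b : G}
variable (C : M22.Ctx D) (ha : a ∈ D) (hb : b ∈ D) (hab : ¬ Commute a b)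
include C ha hb hab

theorem rigid_evs (M : Model D a) (hM : IsNormal M b) {X : G} (hXa : Commute X a) (hXb : Commute X b) :
    ∀ (r : List Ev) (F L : List ℕ), F ≠ [] → (∀ x ∈ F, isPt x = true ∧ Commute X (M.pt x)) →
      chkEvs F r = some L → ∀ x ∈ L, isPt x = true ∧ Commute X (M.pt x)
  | [], F, L, _, hF, h => by simp only [chkEvs, Option.some.injEq] at h; exact h ▸ hF
  | .conj i j :: r, F, L, hne, hF, h => by
    rw [chkEvs] at h
    refine rigid_evs M hM hXa hXb r _ L (List.append_ne_nil_of_left_ne_nil hne _) (fun x hx => ?_) h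
    rcases List.mem_append.1 hx with hx | hx
    · exact hF x hx
    · obtain rfl := List.mem_singleton.1 hx
      obtain ⟨hp, hpX⟩ := hF _ (getD_mem i hne)
      obtain ⟨hc, hcX⟩ := hF _ (getD_mem j hne)
      obtain ⟨h1, h2⟩ := M.conj _ _ hp hc
      exact ⟨h1, h2 ▸ (hpX.mul_right hcX).mul_right hpX⟩
  | .only x s :: r, F, L, hne, hF, h => by
    rw [chkEvs] at h
    simp only [Bool.cond_eq_ite] at h
    split at h
    swap; · simp at h
    rename_i hk
    simp only [Bool.and_eq_true, List.all_eq_true, Bool.or_eq_true, List.any_eq_true, Nat.beq_eq, has_iff,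
      bne_iff_ne, Nat.blt, Nat.ble_eq] at hk
    obtain ⟨⟨hx, hs⟩, huniq⟩ := hk
    refine rigid_evs M hM hXa hXb r _ L (List.append_ne_nil_of_left_ne_nil hne _) (fun z hz => ?_) h
    rcases List.mem_append.1 hz with hz | hz
    · exact hF z hz
    obtain rfl := List.mem_singleton.1 hz
    refine ⟨hx, ?_⟩
    obtain ⟨y, hy, ey⟩ := M.surj (X * M.pt z * X⁻¹) (perp_conj' C.set.cls hXa (M.mem z hx))
    have key : X * M.pt z * X⁻¹ = M.pt z → Commute X (M.pt z) := fun e => mul_inv_eq_iff_eq_mul.1 e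
    rcases huniq y (mem_ptList.2 hy) with ((k | k) | k) | ⟨i, hi, k⟩
    · exact key (by rw [← ey, k])
    · have hk := (hF y k).2
      rw [ey] at hk
      exact key (mul_left_cancel (mul_right_cancel (mul_inv_eq_iff_eq_mul.2 hk.eq)))
    · refine absurd (Bool.eq_iff_iff.2 ?_) k
      rw [← hM y hy, ← hM z hx, ey]
      refine ⟨fun h => ?_, fun h => conj_common C.set ha hb hab hXa hXb h⟩
      have := conj_common C.set ha hb hab hXa.inv_left hXb.inv_left h
      simpa [mul_assoc] using this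
    · refine absurd (Bool.eq_iff_iff.2 ?_) k
      have hf : F.getD i 0 ∈ F := by rw [List.getD_eq_getElem _ _ (hs i hi)]; exact List.getElem_mem _
      obtain ⟨hfp, hfX⟩ := hF _ hf
      rw [← M.comm y _ hy hfp, ← M.comm z _ hx hfp, ey, ← commute_conj_iff X (M.pt z) (M.pt (F.getD i 0))]
      rw [show X * M.pt (F.getD i 0) * X⁻¹ = M.pt (F.getD i 0) from mul_inv_eq_iff_eq_mul.2 hfX.eq]

/-- An element fixing enough members is trivial. -/
theorem rigid (M : Model D a) (hM : IsNormal M b) {X : G} (hXa : Commute X a) (hXb : Commute X b) {F : List ℕ}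
    {r : List Ev} (hne : F ≠ []) (hchk : chkRigid F r = true) (hF : ∀ x ∈ F, Commute X (M.pt x)) : X = 1 := by
  simp only [chkRigid] at hchk
  split at hchk
  swap; · simp at hchk
  rename_i L hL
  simp only [Bool.and_eq_true, List.all_eq_true, has_iff] at hchk
  have h := rigid_evs C ha hb hab M hM hXa hXb r F L hne (fun x hx => ⟨hchk.1 x hx, hF x hx⟩) hL
  have hall : ∀ x, isPt x = true → Commute X (M.pt x) := fun x hx =>
    of_gens M (P := fun y => Commute X (M.pt y)) (fun s hs => (h s (hchk.2 s hs)).2)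
      (fun p c hp hc kp kc => (M.conj p c hp hc).2 ▸ (kp.mul_right kc).mul_right kp) hx
  have hX : X ∈ PerpGroup D a := by
    rw [← M22.centralizer_eq C ha, Subgroup.mem_centralizer_singleton_iff]
    exact hXa.eq
  have hz : (⟨X, hX⟩ : ↥(PerpGroup D a)) ∈ Subgroup.center ↥(PerpGroup D a) := by
    refine Subgroup.mem_center_iff.2 fun k => Subtype.ext ?_
    exact (commute_all (u := X) (fun u hu => by
      obtain ⟨c, hc, rfl⟩ := M.surj u hu
      exact (hall c hc).symm) k.2).eq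
  rw [C.centre a ha, Subgroup.mem_subgroupOf] at hz
  obtain ⟨n, hn⟩ := Subgroup.mem_zpowers_iff.1 hz
  have hsq : a ^ (2 : ℤ) = 1 := by rw [zpow_two, mul_self C.set.cls.1 ha]
  rcases Int.even_or_odd' n with ⟨m, rfl | rfl⟩
  · change a ^ (2 * m) = X at hn
    rw [← hn, zpow_mul, hsq, one_zpow]
  · refine absurd (Eq.subst (motive := fun z => Commute z b) ?_ hXb) hab
    change a ^ (2 * m + 1) = X at hn
    rw [← hn, zpow_add, zpow_mul, hsq, one_zpow, one_mul, zpow_one]

theorem act_inW (M : Model D a) (hM : IsNormal M b) : ∀ (w : List ℕ), (∀ p ∈ w, isPt p = true ∧ inW p = true) →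
    ∀ x, isPt x = true → inW (act w x) = inW x
  | [], _, _, _ => rfl
  | p :: w, hw, x, hx => by
    obtain ⟨hp, hpW⟩ := hw p List.mem_cons_self
    obtain ⟨h1, h2⟩ := M.conj p x hp hx
    rw [show act (p :: w) x = act w (refl p x) by simp [act],
      act_inW M hM w (fun q hq => hw q (List.mem_cons_of_mem _ hq)) _ h1, Bool.eq_iff_iff, ← hM _ h1, ← hM _ hx]
    refine ⟨fun k => ?_, common_closed C ha hb hab M hp hx ((hM p hp).2 hpW)⟩
    have := common_closed C ha hb hab M hp h1 ((hM p hp).2 hpW) k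
    have hs := mul_self C.set.cls.1 (M.mem p hp).1
    rwa [← (M.conj p _ hp h1).2, ← h2, show M.pt p * (M.pt p * M.pt x * M.pt p) * M.pt p =
      (M.pt p * M.pt p) * M.pt x * (M.pt p * M.pt p) by simp only [mul_assoc], hs, one_mul, mul_one] at this

/-- One more member of a chain gets its standard number. -/
theorem level {prev : List ℕ} {ex : List Bool} {d : ℕ × List (ℕ × List ℕ)} (hchk : chkLev prev ex d = true) (M : Model D a)
    (hM : IsNormal M b) (hprev : ∀ p ∈ prev, isPt p = true) {c : ℕ} (hc : c ∈ chainCand prev ex) :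
    ∃ N : Model D a, IsNormal N b ∧ (∀ p ∈ prev, N.pt p = M.pt p) ∧ N.pt d.1 = M.pt c ∧ isPt d.1 = true := by
  simp only [chkLev, Bool.and_eq_true, List.all_eq_true, List.any_eq_true, Nat.beq_eq] at hchk
  obtain ⟨⟨hd, -⟩, hall⟩ := hchk
  obtain ⟨e, -, ⟨⟨he, hw⟩, hfix⟩, hact⟩ := hall c hc
  have hdp : isPt d.1 = true := by
    refine w0_pt ?_
    have hlt : d.1 < 4096 := by
      by_contra hge
      have : wMask < 2 ^ 4096 := by decide +kernel
      rw [inW, Nat.shiftRight_eq_div_pow, Nat.div_eq_of_lt (this.trans_le (Nat.pow_le_pow_right (by norm_num)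
        (Nat.le_of_not_lt hge)))] at hd
      exact Bool.false_ne_true hd
    have h := mask_ok
    simp only [List.all_eq_true] at h
    rw [eq_of_beq (h d.1 (List.mem_range.2 hlt)), has_iff] at hd
    exact hd
  obtain ⟨_, -, N, hN⟩ := exists_moved C.set.cls M fun p hp => (hw p hp).2
  refine ⟨N, fun x hx => ?_, fun p hp => by rw [(hN p (hprev p hp)).2.2, hfix p hp],
    by rw [(hN _ hdp).2.2, hact], hdp⟩
  rw [(hN x hx).2.2, hM _ (hN x hx).2.1, act_inW C ha hb hab M hM e.2 (fun p hp => ⟨(hw p hp).2, (hw p hp).1⟩) x hx]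

/-- Five common members and one outer member: the first rigidity, and the second or a further member commuting
with all seven. -/
theorem outer (y : Fin 5 → G) (hinj : Function.Injective y) (hy : ∀ i, y i ∈ common D a b)
    (hpat : ∀ i j : Fin 5, j < i → (Commute (y i) (y j) ↔ ¬ ((i : ℕ) = j + 1 ∧ (j : ℕ) ≠ 2)))
    {u : G} (hu : u ∈ perp D a) (hub : ¬ Commute b u)
    (hupat : ∀ i : Fin 5, Commute u (y i) ↔ ((i : ℕ) ≠ 2 ∧ (i : ℕ) ≠ 3)) :
    (∀ X : G, Commute X a → Commute X b → Commute X u → Commute X (y 1) → Commute X (y 2) → Commute X (y 3) →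
        Commute X (y 4) → X = 1) ∧
      ((∀ X : G, Commute X a → Commute X b → Commute X u → Commute X (y 0) → Commute X (y 1) → Commute X (y 2) →
        Commute X (y 3) → X = 1) ∨
        ∃ z ∈ common D a b, Commute z u ∧ Commute z (y 0) ∧ Commute z (y 1) ∧ Commute z (y 2) ∧ Commute z (y 3)) := by
  obtain ⟨M0, hM0⟩ := exists_normal C ha hb hab
  have cne : ∀ i j : Fin 5, j < i → ∀ (M : Model D a) (c c' : ℕ), isPt c = true → isPt c' = true → M.pt c = y i →
      M.pt c' = y j → c ≠ c' := fun i j hij M c c' _ _ e e' h => by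
    subst h
    exact hij.ne' (hinj (e.symm.trans e'))
  have cand : ∀ (M : Model D a), IsNormal M b → ∀ (prev : List ℕ) (k : Fin 5) (ex : List Bool),
      (∀ n < k.val, ∀ (hn : n < 5), isPt (prev.getD n 0) = true ∧ M.pt (prev.getD n 0) = y ⟨n, hn⟩) →
      prev.length = k.val → ex.length = k.val →
      (∀ n < k.val, ex.getD n false = decide (¬ (k.val = n + 1 ∧ n ≠ 2))) →
      ∃ c ∈ chainCand prev ex, M.pt c = y k := by
    intro M hM prev k ex hpt hlen hexl hex
    obtain ⟨c, hc, ec⟩ := M.surj (y k) (hy k).1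
    refine ⟨c, List.mem_filter.2 ⟨(inW_iff hc).1 ((hM c hc).1 (ec ▸ hy k)), ?_⟩, ec⟩
    simp only [chainNext, Bool.and_eq_true, Bool.not_eq_true', ← Bool.not_eq_true, has_iff, List.all_eq_true,
      beq_iff_eq]
    refine ⟨fun hmem => ?_, fun e he => ?_⟩
    · obtain ⟨n, hn, en⟩ := List.getElem_of_mem hmem
      obtain ⟨hp, h⟩ := hpt n (by omega) (by omega)
      rw [List.getD_eq_getElem _ _ hn, en] at h hp
      exact cne k ⟨n, by omega⟩ (Fin.lt_def.2 (by simp; omega)) M c c hc hp ec h rfl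
    · obtain ⟨n, hn, rfl⟩ := List.getElem_of_mem he
      rw [List.length_zip] at hn
      simp only [List.getElem_zip]
      obtain ⟨hp, h⟩ := hpt n (by omega) (by omega)
      rw [List.getD_eq_getElem _ _ (by omega)] at h hp
      have hx := hex n (by omega)
      rw [List.getD_eq_getElem _ _ (by omega)] at hx
      rw [hx, Bool.eq_iff_iff, decide_eq_true_eq, ← M.comm c _ hc hp, ec, h]
      exact hpat k ⟨n, by omega⟩ (Fin.lt_def.2 (by simp; omega))
  have hl := lev_ok
  simp only [Bool.and_eq_true] at hl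
  obtain ⟨⟨⟨⟨hl0, hl1⟩, hl2⟩, hl3⟩, hl4⟩ := hl
  obtain ⟨c, hc, e0⟩ := cand M0 hM0 [] 0 [] (fun n hn => absurd hn (Nat.not_lt_zero n)) rfl rfl
    (fun n hn => absurd hn (Nat.not_lt_zero n))
  obtain ⟨M1, hM1, -, f0, p0⟩ := level C ha hb hab hl0 M0 hM0 (by simp) hc
  rw [e0] at f0
  obtain ⟨c, hc, e1⟩ := cand M1 hM1 [lev0.1] 1 [false] (fun n hn h5 => by
      have hn' : n < 1 := hn
      interval_cases n; exact ⟨p0, f0⟩) rfl rfl
    (fun n hn => by have hn' : n < 1 := hn; interval_cases n <;> decide)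
  obtain ⟨M2, hM2, k2, f1, p1⟩ := level C ha hb hab hl1 M1 hM1 (by simp [p0]) hc
  rw [e1] at f1
  obtain ⟨c, hc, e2⟩ := cand M2 hM2 [lev0.1, lev1.1] 2 [true, false] (fun n hn h5 => by
      have hn' : n < 2 := hn
      interval_cases n
      exacts [⟨p0, (k2 _ (by simp)).trans f0⟩, ⟨p1, f1⟩]) rfl rfl
    (fun n hn => by have hn' : n < 2 := hn; interval_cases n <;> decide)
  obtain ⟨M3, hM3, k3, f2, p2⟩ := level C ha hb hab hl2 M2 hM2 (by simp [p0, p1]) hc
  rw [e2] at f2
  obtain ⟨c, hc, e3⟩ := cand M3 hM3 [lev0.1, lev1.1, lev2.1] 3 [true, true, true] (fun n hn h5 => by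
      have hn' : n < 3 := hn
      interval_cases n
      exacts [⟨p0, ((k3 _ (by simp)).trans (k2 _ (by simp))).trans f0⟩, ⟨p1, (k3 _ (by simp)).trans f1⟩, ⟨p2, f2⟩])
    rfl rfl (fun n hn => by have hn' : n < 3 := hn; interval_cases n <;> decide)
  obtain ⟨M4, hM4, k4, f3, p3⟩ := level C ha hb hab hl3 M3 hM3 (by simp [p0, p1, p2]) hc
  rw [e3] at f3
  obtain ⟨c, hc, e4⟩ := cand M4 hM4 [lev0.1, lev1.1, lev2.1, lev3.1] 4 [true, true, true, false] (fun n hn h5 => by
      have hn' : n < 4 := hn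
      interval_cases n
      exacts [⟨p0, (((k4 _ (by simp)).trans (k3 _ (by simp))).trans (k2 _ (by simp))).trans f0⟩,
        ⟨p1, ((k4 _ (by simp)).trans (k3 _ (by simp))).trans f1⟩, ⟨p2, (k4 _ (by simp)).trans f2⟩, ⟨p3, f3⟩])
    rfl rfl (fun n hn => by have hn' : n < 4 := hn; interval_cases n <;> decide)
  obtain ⟨M5, hM5, k5, f4, p4⟩ := level C ha hb hab hl4 M4 hM4 (by simp [p0, p1, p2, p3]) hc
  rw [e4] at f4
  have g0 : M5.pt lev0.1 = y 0 :=
    (((k5 _ (by simp)).trans (k4 _ (by simp))).trans ((k3 _ (by simp)).trans (k2 _ (by simp)))).trans f0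
  have g1 : M5.pt lev1.1 = y 1 := (((k5 _ (by simp)).trans (k4 _ (by simp))).trans (k3 _ (by simp))).trans f1
  have g2 : M5.pt lev2.1 = y 2 := ((k5 _ (by simp)).trans (k4 _ (by simp))).trans f2
  have g3 : M5.pt lev3.1 = y 3 := (k5 _ (by simp)).trans f3
  obtain ⟨d, hd, ed⟩ := M5.surj u hu
  have hdW : inW d = false := Bool.eq_false_iff.2 fun k => hub (ed ▸ ((hM5 d hd).2 k).2.2.2)
  have hr := rigs_ok
  simp only [List.all_eq_true, List.any_eq_true, Bool.and_eq_true, Nat.beq_eq] at hr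
  obtain ⟨e, -, ⟨he, hS⟩, hB⟩ := hr d (List.mem_filter.2 ⟨mem_ptList.2 hd, by
    have key : ∀ (k : Fin 5) (x : ℕ), isPt x = true → M5.pt x = y k →
        adj d x = decide ((k : ℕ) ≠ 2 ∧ (k : ℕ) ≠ 3) ∧ d ≠ x := fun k x hx ex => by
      refine ⟨?_, fun h => ?_⟩
      · rw [Bool.eq_iff_iff, decide_eq_true_eq, ← M5.comm d x hd hx, ed, ex]
        exact hupat k
      · rw [h, ex] at ed
        exact hub (ed ▸ (hy k).2.2.2)
    obtain ⟨a0, n0⟩ := key 0 _ p0 g0
    obtain ⟨a1, n1⟩ := key 1 _ p1 g1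
    obtain ⟨a2, n2⟩ := key 2 _ p2 g2
    obtain ⟨a3, n3⟩ := key 3 _ p3 g3
    obtain ⟨a4, n4⟩ := key 4 _ p4 f4
    simp [chainNext, hdW, has, a0, a1, a2, a3, a4, beq_false n0, beq_false n1, beq_false n2, beq_false n3,
      beq_false n4]⟩)
  refine ⟨fun X hXa hXb hXu h1 h2 h3 h4 => rigid C ha hb hab M5 hM5 hXa hXb (by simp) hS fun x hx => ?_, ?_⟩
  · simp only [List.mem_cons, List.not_mem_nil, or_false] at hx
    rcases hx with rfl | rfl | rfl | rfl | rfl
    exacts [f4 ▸ h4, g1 ▸ h1, g2 ▸ h2, ed ▸ hXu, g3 ▸ h3]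
  · split at hB
    · refine Or.inl fun X hXa hXb hXu h0 h1 h2 h3 => rigid C ha hb hab M5 hM5 hXa hXb (by simp) hB fun x hx => ?_
      simp only [List.mem_cons, List.not_mem_nil, or_false] at hx
      rcases hx with rfl | rfl | rfl | rfl | rfl
      exacts [g0 ▸ h0, g1 ▸ h1, g2 ▸ h2, ed ▸ hXu, g3 ▸ h3]
    · rename_i v _ _
      simp only [Bool.and_eq_true, List.all_eq_true] at hB
      obtain ⟨⟨hv, hvW⟩, hadj⟩ := hB
      refine Or.inr ⟨M5.pt v, (hM5 v hv).2 hvW, ed ▸ (M5.comm v d hv hd).2 (hadj d (by simp)),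
        g0 ▸ (M5.comm v _ hv p0).2 (hadj _ (by simp)), g1 ▸ (M5.comm v _ hv p1).2 (hadj _ (by simp)),
        g2 ▸ (M5.comm v _ hv p2).2 (hadj _ (by simp)), g3 ▸ (M5.comm v _ hv p3).2 (hadj _ (by simp))⟩

end Cfsg.Agent.Fus.M22U
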